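import Cfsg.Agent.H340.ExcDeg
/-!
# `F₄(q)`, `q` even (also `q = 2`): no representation of degree at most `248` in odd characteristic (helper340)

The abelian normal subgroup `E = Z(Q)` of the parabolic subgroup of type `C₃` (in characteristic two) is elementary
abelian of order `2⁷` (parameters `1`), generated by `x_ρ(1)` and `x_c(1)`, `c` one of six short roots.
The group `⟨x_a(1)⟩`, `a ∈ C₃`, has orbits of lengths `28` and `36` on the `64` characters of `E` not trivial on
`x_ρ(1)`, and every weight space has dimension at least `16`, by the action of the long root elements.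
-/

set_option autoImplicit false
set_option linter.unusedSectionVars false

universe u v w

namespace Cfsg.Agent.H340.F4Two

open Cfsg Module Cfsg.Lie Cfsg.Lie.ChevalleyDatum Cfsg.Agent.ChevalleyStructure Cfsg.Agent.ChevalleyStructure.Elts
  Cfsg.Agent.Omega.TwoF.ChevHeis

section Lin

variable {k : Type} [Field k] {V : Type} [AddCommGroup V] [Module k V] [FiniteDimensional k V]

/-- Sum of the dimensions of weight spaces. -/
theorem card_mul_le {κ : Type} {ι : Type} [Fintype κ] (e : ι → Module.End k V) (hc : ∀ i j, Commute (e i) (e j))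
    (χ : κ → ι → k) (hχ : Function.Injective χ) (W : κ → Submodule k V)
    (hW : ∀ j, ∀ v ∈ W j, ∀ i, e i v = χ j i • v) (d : ℕ) (hd : ∀ j, d ≤ finrank k (W j)) :
    Fintype.card κ * d ≤ finrank k V := by
  classical
  have h1 : iSupIndep fun χ : ι → k => ⨅ i, (e i).maxGenEigenspace (χ i) :=
    Module.End.independent_iInf_maxGenEigenspace_of_forall_mapsTo e fun i j φ =>
      Module.End.mapsTo_maxGenEigenspace_of_comm (hc j i) φ
  have h2 : iSupIndep fun j : κ => ⨅ i, (e i).maxGenEigenspace (χ j i) := h1.comp hχ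
  have h3 : iSupIndep W := by
    refine h2.mono fun j => ?_
    intro v hv
    rw [Submodule.mem_iInf]
    intro i
    refine Module.End.genEigenspace_le_maximal (e i) (χ j i) 1 ?_
    rw [Module.End.mem_genEigenspace_nat, pow_one, LinearMap.mem_ker]
    change e i v - χ j i • v = 0
    rw [hW j v hv i, sub_self]
  have h4 := LinearMap.finrank_le_finrank_of_injective h3.dfinsupp_lsum_injective
  refine le_trans ?_ h4
  have h5 : finrank k (Π₀ j : κ, W j) = ∑ j : κ, finrank k (W j) := Module.finrank_directSum k (fun j => ↥(W j))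
  rw [h5]
  calc Fintype.card κ * d = ∑ _j : κ, d := by rw [Finset.sum_const, Finset.card_univ, smul_eq_mul]
    _ ≤ _ := Finset.sum_le_sum fun j _ => hd j

end Lin

section Tab

/-- the six short roots of the Heisenberg radical -/
def Cs : List ℕ := [29, 44, 36, 40, 38, 39]

/-- `±` fundamental roots of the subsystem `C₃` orthogonal to the highest root -/
def Gs : List ℕ := [33, 27, 25, 14, 20, 22]

/-- the terms of the commutator formula with odd coefficient -/
def oddT (D : ChevalleyDatum) (a c : ℕ) : List ℕ := ((D.commTerms a c).filter fun t => t.2.1 % 2 != 0).map Prod.fst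

/-- the same, as a table -/
def oT (a c : ℕ) : List ℕ :=
  if a == 33 then (if c == 29 then [36] else if c == 40 then [44] else [])
  else if a == 27 then (if c == 36 then [38] else if c == 39 then [40] else [])
  else if a == 25 then (if c == 38 then [39, 47] else [])
  else if a == 14 then (if c == 44 then [40] else if c == 36 then [29] else [])
  else if a == 20 then (if c == 40 then [39] else if c == 38 then [36] else [])
  else if a == 22 then (if c == 39 then [38, 47] else [])
  else []

theorem tab_oT : ∀ a ∈ Gs, ∀ c ∈ 47 :: Cs, oddT chevF4 a c = oT a c ∧ a < 48 ∧ c < 48 ∧ c ≠ a ∧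
    c ≠ chevF4.neg a := by decide +kernel

theorem oT_mem : ∀ a ∈ Gs, ∀ c ∈ 47 :: Cs, ∀ k ∈ oT a c, k ∈ 47 :: Cs := by decide +kernel

/-- the sign (as a boolean) of the character `l` on the root element `k` -/
def val (l k : ℕ) : Bool := k == 47 || Nat.testBit l (Cs.idxOf k)

/-- product of signs -/
def vals (l : ℕ) (w : List ℕ) : Bool := w.foldr (fun k b => val l k ^^ b) false

/-- the action of `x_a(1)` on the characters -/
def act (a l : ℕ) : ℕ := ((List.range 6).map fun i =>
  if (val l (Cs.getD i 0) ^^ vals l (oT a (Cs.getD i 0))) = true then 2 ^ i else 0).sum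

theorem act_lt : ∀ a ∈ Gs, ∀ l < 64, act a l < 64 := by decide +kernel

theorem act_act : ∀ a ∈ Gs, ∀ l < 64, act a (act a l) = l := by decide +kernel

theorem act_val : ∀ a ∈ Gs, ∀ l < 64, ∀ c ∈ 47 :: Cs, val (act a l) c = (val l c ^^ vals l (oT a c)) := by
  decide +kernel

/-- the generator leading to the parent in the spanning tree -/
def gen : List ℕ := [0, 25, 33, 0, 25, 25, 22, 14, 27, 27, 14, 33, 33, 14, 33, 14, 25, 27, 33, 25, 27, 33, 27, 27, 25,
  27, 14, 25, 33, 14, 33, 14, 22, 22, 33, 22, 22, 22, 20, 22, 20, 20, 14, 27, 33, 14, 27, 14, 27, 27, 27, 33, 20, 20,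
  33, 33, 27, 14, 27, 14, 20, 20, 14, 27]

/-- the parent -/
def par (l : ℕ) : ℕ := if gen.getD l 0 = 0 then l else act (gen.getD l 0) l

theorem gen_mem : ∀ l < 64, gen.getD l 0 = 0 ∨ gen.getD l 0 ∈ Gs := by decide +kernel

/-- the root -/
def root (l : ℕ) : ℕ := par^[9] l

theorem root_eq : ∀ l < 64, root l = 0 ∨ root l = 3 := by decide +kernel

theorem card_0 : 16 ≤ ((Finset.range 64).filter fun l => root l = 0).card := by decide +kernel
theorem card_3 : 16 ≤ ((Finset.range 64).filter fun l => root l = 3).card := by decide +kernel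

/-- **Orbits have at least `16` elements.** -/
theorem reach (P : ℕ → Prop) (hcl : ∀ a ∈ Gs, ∀ l < 64, P l → P (act a l)) (l : ℕ) (hl : l < 64) (h : P l) :
    ∃ S : Finset ℕ, 16 ≤ S.card ∧ ∀ x ∈ S, x < 64 ∧ P x := by
  have hiff : ∀ a ∈ Gs, ∀ l < 64, (P (act a l) ↔ P l) := fun a ha l hl =>
    ⟨fun h => act_act a ha l hl ▸ hcl a ha _ (act_lt a ha l hl) h, hcl a ha l hl⟩
  have hpar : ∀ l < 64, par l < 64 ∧ (P (par l) ↔ P l) := by
    intro l hl
    rw [par]
    by_cases h0 : gen.getD l 0 = 0
    · rw [if_pos h0]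
      exact ⟨hl, Iff.rfl⟩
    · rw [if_neg h0]
      have h1 := (gen_mem l hl).resolve_left h0
      exact ⟨act_lt _ h1 l hl, hiff _ h1 l hl⟩
  have hit : ∀ n : ℕ, ∀ l < 64, par^[n] l < 64 ∧ (P (par^[n] l) ↔ P l) := by
    intro n
    induction n with
    | zero => intro l hl; exact ⟨hl, Iff.rfl⟩
    | succ n ih =>
      intro l hl
      rw [Function.iterate_succ_apply]
      have h1 := hpar l hl
      have h2 := ih (par l) h1.1
      exact ⟨h2.1, h2.2.trans h1.2⟩
  have hr : ∀ l < 64, (P (root l) ↔ P l) := fun l hl => (hit 9 l hl).2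
  refine ⟨(Finset.range 64).filter fun x => root x = root l, ?_, ?_⟩
  · rcases root_eq l hl with h0 | h0
    · rw [h0]; exact card_0
    · rw [h0]; exact card_3
  · intro x hx
    rw [Finset.mem_filter, Finset.mem_range] at hx
    refine ⟨hx.1, ?_⟩
    rw [← hr x hx.1, hx.2, hr l hl]
    exact h

theorem exists_code : ∀ b : Fin 6 → Bool, ∃ l < 64, ∀ i : Fin 6, val l (Cs.getD i 0) = b i := by
  decide +kernel

/-- codes are determined by their values -/
theorem val_inj : ∀ l < 64, ∀ l' < 64, (∀ c ∈ Cs, val l c = val l' c) → l = l' := by decide +kernel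

end Tab

section Grp

theorem hF4 : InList chevF4 := by simp

variable {F : Type u} [Field F] [CharP F 2]

theorem cast_even {C : ℤ} (h : ¬ C % 2 ≠ 0) : (C : F) = 0 := by
  obtain ⟨m, hm⟩ := Int.even_iff.2 (not_not.1 h)
  rw [hm, Int.cast_add, CharTwo.add_self_eq_zero]

theorem cast_odd {C : ℤ} (h : C % 2 ≠ 0) : (C : F) = 1 := by
  obtain ⟨m, hm⟩ := Int.odd_iff.2 (show C % 2 = 1 by omega)
  rw [hm, two_mul, Int.cast_add, Int.cast_add, CharTwo.add_self_eq_zero, zero_add, Int.cast_one]

/-- the commutator relation for parameters `1` in characteristic two -/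
theorem rel_one {D : ChevalleyDatum} (hD : InList D) {r s : ℕ} (hr : r < D.nroots) (hs : s < D.nroots)
    (hrs : s ≠ r) (hneg : s ≠ D.neg r) :
    xG hD s (1 : F) * xG hD r 1 = xG hD r 1 * xG hD s 1 * ((oddT D r s).map fun k => xG hD k (1 : F)).prod := by
  have h1 := congrArg Subtype.val (xK_word hD hr hs hrs hneg (1 : F) 1)
  have h2 : ∀ w : List (ℕ × ℤ × ℕ × ℕ),
      wordG hD (w.map fun c => (c.1, (c.2.1 : F) * (-1) ^ c.2.2.1 * 1 ^ c.2.2.2)) =
      ((((w.filter fun t => t.2.1 % 2 != 0).map Prod.fst)).map fun k => xG hD k (1 : F)).prod := by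
    intro w
    induction w with
    | nil => rfl
    | cons c w ih =>
      rw [List.map_cons, wordG_cons, ih]
      have e : (-1 : F) = 1 := CharTwo.neg_eq 1
      by_cases hc : c.2.1 % 2 ≠ 0
      · rw [List.filter_cons_of_pos (by simpa using hc), List.map_cons, List.map_cons, List.prod_cons]
        simp only [e, one_pow, mul_one, cast_odd hc]
      · rw [List.filter_cons_of_neg (by simpa using hc)]
        simp only [e, one_pow, mul_one, cast_even hc, xG_zero, one_mul]
  have h3 : wordG hD (D.commWord F r s 1 1) = ((oddT D r s).map fun k => xG hD k (1 : F)).prod := h2 _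
  rw [← h3]
  exact h1

variable (F) in
/-- the positive unipotent group as a subgroup of `F₄(F)` -/
abbrev UU : Subgroup ↥(chevF4.group F) := (chevF4.posUnipotent F).subgroupOf (chevF4.group F)

variable (F) in
/-- root elements with parameter `1` -/
noncomputable def Y (r : ℕ) : ↥(UU F) :=
  open Classical in if h : chevF4.IsPosRoot r then ⟨⟨xG hF4 r 1, xG_mem_group hF4 r 1⟩, xG_mem_posUnipotent hF4 h 1⟩ else 1

/-- the underlying matrix -/
abbrev mt (y : ↥(UU F)) : GL chevF4.Idx F := ((y : ↥(chevF4.group F)) : GL chevF4.Idx F)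

theorem mt_inj {y y' : ↥(UU F)} (h : mt y = mt y') : y = y' := Subtype.ext (Subtype.ext h)

theorem mt_mul (y y' : ↥(UU F)) : mt (y * y') = mt y * mt y' := rfl

theorem coe_Y {r : ℕ} (h : chevF4.IsPosRoot r) : mt (Y F r) = xG hF4 r 1 := by
  rw [Y, dif_pos h]

theorem coe_Y_prod {w : List ℕ} (h : ∀ r ∈ w, chevF4.IsPosRoot r) :
    mt (w.map (Y F)).prod = (w.map fun k => xG hF4 k (1 : F)).prod := by
  induction w with
  | nil => rfl
  | cons r w ih =>
    rw [List.map_cons, List.map_cons, List.prod_cons, List.prod_cons, mt_mul, coe_Y (h r List.mem_cons_self),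
      ih fun s hs => h s (List.mem_cons_of_mem _ hs)]

theorem pos_Cs : ∀ c ∈ 47 :: Cs, chevF4.IsPosRoot c := by decide +kernel

theorem even_Cs : ∀ c ∈ 47 :: Cs, ∀ c' ∈ 47 :: Cs, c = c' ∨ (oddT chevF4 c c' = [] ∧ c < chevF4.nroots ∧
    c' < chevF4.nroots ∧ c' ≠ c ∧ c' ≠ chevF4.neg c) := by decide +kernel

/-- `E` is abelian -/
theorem Y_comm {c c' : ℕ} (hc : c ∈ 47 :: Cs) (hc' : c' ∈ 47 :: Cs) : Y F c * Y F c' = Y F c' * Y F c := by
  rcases even_Cs c' hc' c hc with rfl | ⟨h1, h2, h3, h4, h5⟩
  · rfl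
  · apply mt_inj
    rw [mt_mul, mt_mul, coe_Y (pos_Cs c hc), coe_Y (pos_Cs c' hc'), rel_one hF4 h2 h3 h4 h5, h1, List.map_nil,
      List.prod_nil, mul_one]

theorem Y_sq {c : ℕ} (hc : chevF4.IsPosRoot c) : Y F c * Y F c = 1 := by
  apply mt_inj
  rw [mt_mul, coe_Y hc, ExcDeg.xG_sq]
  rfl

end Grp

section Main

variable {F : Type u} [Field F] [Fintype F] [CharP F 2]

/-- the pairs of long roots -/
def pa : Fin 4 → ℕ × ℕ := ![(46, 24), (26, 45), (31, 43), (42, 32)]

theorem dat : ExcDeg.Data (D := chevF4) 47 [46, 24, 26, 45, 31, 43, 42, 32] :=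
  ExcDeg.data_of_hz (by decide +kernel)

theorem long_comm : ∀ r ∈ [46, 24, 26, 45, 31, 43, 42, 32], ∀ c ∈ 47 :: Cs, cm chevF4 r c = true ∧
    r < chevF4.nroots ∧ c < chevF4.nroots := by decide +kernel

theorem eq_of_two {L : Type v} {K : Type w} [Group L] [Group K] (π : L →* K)
    (hc : π.ker ≤ Subgroup.center L) (ho : Odd (Nat.card π.ker)) {x y : L} {n m : ℕ} (hx : x ^ 2 ^ n = 1)
    (hy : y ^ 2 ^ m = 1) (h : π x = π y) : x = y := by
  have hker : y⁻¹ * x ∈ π.ker := by rw [MonoidHom.mem_ker, map_mul, map_inv, h, inv_mul_cancel]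
  obtain ⟨c, hcx⟩ : ∃ c : π.ker, (c : L) = y⁻¹ * x := ⟨⟨_, hker⟩, rfl⟩
  have hcc : Commute y (c : L) := (Subgroup.mem_center_iff.1 (hc c.2) y)
  have hx' : x = y * c := by rw [hcx, mul_inv_cancel_left]
  have h1 : (c : L) ^ 2 ^ (n + m) = 1 := by
    have h2 : x ^ 2 ^ (n + m) = 1 := by rw [pow_add, pow_mul, hx, one_pow]
    have h3 : y ^ 2 ^ (n + m) = 1 := by rw [add_comm, pow_add, pow_mul, hy, one_pow]
    rw [hx', hcc.mul_pow, h3, one_mul] at h2
    exact h2
  have h2 : orderOf c ∣ 2 ^ (n + m) := by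
    rw [orderOf_dvd_iff_pow_eq_one]
    exact Subtype.ext h1
  have h3 : orderOf c ∣ Nat.card π.ker := orderOf_dvd_natCard c
  have h4 : Nat.Coprime (2 ^ (n + m)) (Nat.card π.ker) := (Nat.coprime_two_left.2 ho).pow_left _
  have h5 : orderOf c = 1 := Nat.eq_one_of_dvd_coprimes h4 h2 h3
  rw [orderOf_eq_one_iff] at h5
  rw [hx', h5]
  exact mul_one y

/-- **`F₄(q)`, `q` even, and its central extensions by groups of odd order have no faithful representation of degree
at most `248` in odd characteristic.** -/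
theorem not_hasRep {L : Type v} [Group L] [Finite L] (π : L →* ↥(chevF4.group F)) (hπ : Function.Surjective π)
    (hc : π.ker ≤ Subgroup.center L) (ho : Odd (Nat.card π.ker)) : ¬ HasRep 248 L := by
  rintro ⟨k, i1, V, i2, i3, i4, h2, hn, ρ, hρ⟩
  have hU : IsPGroup 2 ↥(UU F) := (ExcDeg.isPGroup_pos (K := F) hF4).comap_of_injective _ Subtype.val_injective
  obtain ⟨f, hf⟩ := Deg.exists_section π hπ ho (UU F) hU
  let R : L → Module.End k V := fun g => (ρ g : Module.End k V)
  have hR : ∀ g h v, R g (R h v) = R (g * h) v := fun g h v => by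
    change _ = ((ρ (g * h) : (Module.End k V)ˣ) : Module.End k V) v
    rw [map_mul, Units.val_mul]
    rfl
  have hR1 : ∀ v, R 1 v = v := fun v => by
    change ((ρ 1 : (Module.End k V)ˣ) : Module.End k V) v = v
    rw [map_one]; rfl
  have hRinj : ∀ g v, R g v = 0 → v = 0 := by
    intro g v hv
    rw [← hR1 v, ← inv_mul_cancel g, ← hR, hv, map_zero]
  let op : ↥(UU F) → Module.End k V := fun y => R (f y)
  have hop : ∀ y y' v, op y (op y' v) = op (y * y') v := fun y y' v => by
    change R (f y) (R (f y') v) = R (f (y * y')) v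
    rw [hR, map_mul]
  have hop1 : ∀ v, op 1 v = v := fun v => by
    change R (f 1) v = v
    rw [map_one]
    exact hR1 v
  have hopinj : ∀ y v, op y v = 0 → v = 0 := fun y v => hRinj _ v
  let sg : Bool → k := fun b => if b then -1 else 1
  have hsg : ∀ b b', sg (b ^^ b') = sg b * sg b' := by
    intro b b'
    cases b <;> cases b' <;> simp [sg]
  have hsgt : sg true = -1 := if_pos rfl
  have hsgf : sg false = 1 := if_neg Bool.false_ne_true
  let Wt : ℕ → Submodule k V := fun l =>
    { carrier := {v | ∀ c ∈ 47 :: Cs, op (Y F c) v = sg (val l c) • v}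
      zero_mem' := fun c _ => by rw [map_zero, smul_zero]
      add_mem' := fun {a b} ha hb c hcm => by rw [map_add, ha c hcm, hb c hcm, smul_add]
      smul_mem' := fun t a ha c hcm => by rw [map_smul, ha c hcm, smul_comm] }
  have hWt : ∀ l v, v ∈ Wt l ↔ ∀ c ∈ 47 :: Cs, op (Y F c) v = sg (val l c) • v := fun l v => Iff.rfl
  have h47 : 47 ∈ 47 :: Cs := List.mem_cons_self
  have hval47 : ∀ l, val l 47 = true := fun l => rfl
  -- a nonzero weight space
  have hA : ∃ l < 64, Wt l ≠ ⊥ := by
    let W := LinearMap.ker (op (Y F 47) + 1)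
    have hW : ∀ v, v ∈ W ↔ op (Y F 47) v = -v := fun v => by
      rw [LinearMap.mem_ker]
      exact add_eq_zero_iff_eq_neg
    have hWn : W ≠ ⊥ := by
      intro hbot
      have h3 : Y F 47 = 1 := by
        have h4 : f (Y F 47) = f 1 := by
          apply hρ
          rw [map_one, map_one]
          apply Units.ext
          apply LinearMap.ext
          intro v
          change op (Y F 47) v = v
          have h3 : op (Y F 47) v - v ∈ W := by
            rw [hW, map_sub, hop, Y_sq (pos_Cs 47 h47), hop1, neg_sub]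
          rw [hbot, Submodule.mem_bot] at h3
          exact sub_eq_zero.1 h3
        have h5 := congrArg π h4
        rw [hf, hf] at h5
        exact Subtype.ext h5
      have h6 := congrArg mt h3
      rw [coe_Y (pos_Cs 47 h47)] at h6
      exact one_ne_zero ((xG_eq_one_iff hF4 (show 47 < chevF4.nroots by decide) (1 : F)).1 h6)
    obtain ⟨v, hvW, hv0, hv⟩ := Deg.exists_eigen h2 (Cs.map fun c => op (Y F c)) W hWn
      (by
        intro e he v hv
        obtain ⟨c, hcm, rfl⟩ := List.mem_map.1 he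
        rw [hW] at hv ⊢
        rw [hop, Y_comm h47 (List.mem_cons_of_mem _ hcm), ← hop, hv, map_neg])
      (by
        intro e he v _
        obtain ⟨c, hcm, rfl⟩ := List.mem_map.1 he
        rw [hop, Y_sq (pos_Cs c (List.mem_cons_of_mem _ hcm)), hop1])
      (by
        intro e he e' he' v _
        obtain ⟨c, hcm, rfl⟩ := List.mem_map.1 he
        obtain ⟨c', hcm', rfl⟩ := List.mem_map.1 he'
        rw [hop, hop, Y_comm (List.mem_cons_of_mem _ hcm) (List.mem_cons_of_mem _ hcm')])
    classical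
    obtain ⟨l, hl, hlb⟩ := exists_code fun i => decide (op (Y F (Cs.getD i 0)) v = -v)
    refine ⟨l, hl, ?_⟩
    intro hbot
    apply hv0
    rw [← Submodule.mem_bot k, ← hbot, hWt]
    intro c hcm
    rcases List.mem_cons.1 hcm with rfl | hcm
    · rw [hval47, hsgt, neg_smul, one_smul]
      exact (hW v).1 hvW
    · obtain ⟨i, hi⟩ : ∃ i : Fin 6, Cs.getD i 0 = c := by
        revert hcm
        revert c
        decide
      have h3 := hlb i
      rw [hi] at h3
      rw [h3]
      by_cases h4 : op (Y F c) v = -v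
      · rw [decide_eq_true h4, hsgt, neg_smul, one_smul]
        exact h4
      · rw [decide_eq_false h4, hsgf, one_smul]
        exact (hv _ (List.mem_map.2 ⟨c, hcm, rfl⟩)).resolve_right h4
  -- weights are permuted
  have hB : ∀ a ∈ Gs, ∀ l < 64, Wt l ≠ ⊥ → Wt (act a l) ≠ ⊥ := by
    intro a ha l hl hne
    obtain ⟨v, hv, hv0⟩ := Submodule.exists_mem_ne_zero_of_ne_bot hne
    obtain ⟨g, hg⟩ := hπ ⟨xG hF4 a 1, xG_mem_group hF4 a 1⟩
    have hprod : ∀ w : List ℕ, (∀ c ∈ w, c ∈ 47 :: Cs) → op (w.map (Y F)).prod v = sg (vals l w) • v := by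
      intro w
      induction w with
      | nil =>
        intro _
        rw [List.map_nil, List.prod_nil, hop1]
        change v = sg false • v
        rw [hsgf, one_smul]
      | cons c w ih =>
        intro hw
        rw [List.map_cons, List.prod_cons, ← hop, ih (fun x hx => hw x (List.mem_cons_of_mem _ hx)), map_smul,
          (hWt l v).1 hv c (hw c List.mem_cons_self), smul_smul, mul_comm]
        change _ = sg (val l c ^^ vals l w) • v
        rw [hsg]
    intro hbot
    apply hv0
    refine hRinj g v ?_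
    rw [← Submodule.mem_bot k, ← hbot, hWt]
    intro c hcm
    obtain ⟨h3, h4, h5, h6, h7⟩ := tab_oT a ha c hcm
    have hconj : f (Y F c) * g = g * f (Y F c * ((oT a c).map (Y F)).prod) := by
      obtain ⟨m, hm⟩ := hU (Y F c * ((oT a c).map (Y F)).prod)
      have e1 : g⁻¹ * f (Y F c) * g = f (Y F c * ((oT a c).map (Y F)).prod) := by
        refine eq_of_two π hc ho (n := 1) (m := m) ?_ ?_ ?_
        · rw [pow_one, pow_two]
          have e2 : f (Y F c) * f (Y F c) = 1 := by rw [← map_mul, Y_sq (pos_Cs c hcm), map_one]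
          calc g⁻¹ * f (Y F c) * g * (g⁻¹ * f (Y F c) * g) = g⁻¹ * (f (Y F c) * f (Y F c)) * g := by group
            _ = 1 := by rw [e2, mul_one, inv_mul_cancel]
        · rw [← map_pow, hm, map_one]
        · rw [map_mul, map_mul, map_inv, hg, hf, hf]
          have e3 : ((Y F c : ↥(UU F)) : ↥(chevF4.group F)) * ⟨xG hF4 a 1, xG_mem_group hF4 a 1⟩ =
              ⟨xG hF4 a 1, xG_mem_group hF4 a 1⟩ * ((Y F c * ((oT a c).map (Y F)).prod : ↥(UU F)) : ↥(chevF4.group F)) := by
            apply Subtype.ext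
            change mt (Y F c) * xG hF4 a 1 = xG hF4 a 1 * mt (Y F c * ((oT a c).map (Y F)).prod)
            rw [mt_mul, coe_Y (pos_Cs c hcm), coe_Y_prod (fun r hr => pos_Cs r (oT_mem a ha c hcm r hr)), ← h3,
              rel_one hF4 (show a < chevF4.nroots from h4) (show c < chevF4.nroots from h5) h6 h7, mul_assoc]
          rw [mul_assoc, e3, inv_mul_cancel_left]
      rw [← e1]
      group
    have e4 : op (Y F c) (R g v) = R g (op (Y F c * ((oT a c).map (Y F)).prod) v) := by
      change R (f (Y F c)) (R g v) = R g (R (f _) v)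
      rw [hR, hR, hconj]
    rw [e4, ← hop, hprod _ (oT_mem a ha c hcm), map_smul, (hWt l v).1 hv c hcm, smul_smul, map_smul,
      act_val a ha l hl c hcm, hsg, mul_comm]
  -- dimensions
  have hC : ∀ l, Wt l ≠ ⊥ → 2 ^ 4 ≤ finrank k (Wt l) := by
    intro l hne
    have : Nontrivial (Wt l) := Submodule.nontrivial_iff_ne_bot.2 hne
    have hm1 : ∀ i : Fin 4, (pa i).1 ∈ [46, 24, 26, 45, 31, 43, 42, 32] := by decide
    have hm2 : ∀ i : Fin 4, (pa i).2 ∈ [46, 24, 26, 45, 31, 43, 42, 32] := by decide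
    have hpa : ∀ i j : Fin 4, ExcDeg.pr chevF4 47 (pa i).1 (pa j).1 = false := by decide +kernel
    have hpb : ∀ i j : Fin 4, ExcDeg.pr chevF4 47 (pa i).1 (pa j).2 = decide (i = j) := by decide +kernel
    have hpos : ∀ r ∈ [46, 24, 26, 45, 31, 43, 42, 32], chevF4.IsPosRoot r := dat.pos
    have hcommE : ∀ r ∈ [46, 24, 26, 45, 31, 43, 42, 32], ∀ c ∈ 47 :: Cs, Y F c * Y F r = Y F r * Y F c := by
      intro r hr c hcm
      obtain ⟨h3, h4, h5⟩ := long_comm r hr c hcm
      apply mt_inj
      rw [mt_mul, mt_mul, coe_Y (pos_Cs c hcm), coe_Y (hpos r hr)]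
      exact (ExcDeg.comm_x hF4 h4 h5 h3 1 1).symm
    have hpres : ∀ r ∈ [46, 24, 26, 45, 31, 43, 42, 32], ∀ v ∈ Wt l, op (Y F r) v ∈ Wt l := by
      intro r hr v hv
      rw [hWt] at hv ⊢
      intro c hcm
      rw [hop, hcommE r hr c hcm, ← hop, hv c hcm, map_smul]
    refine Deg.le_of_sub h2 (Wt l) (fun i => op (Y F (pa i).1)) (fun i => op (Y F (pa i).2))
      (fun i => hpres _ (hm1 i)) (fun i => hpres _ (hm2 i)) (fun i v _ => ?_) (fun i v _ h => hopinj _ v h)
      (fun i j v _ => ?_) (fun i v hv => ?_) (fun i j hij v _ => ?_)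
    · rw [hop, Y_sq (hpos _ (hm1 i)), hop1]
    · rw [hop, hop]
      congr 2
      apply mt_inj
      rw [mt_mul, mt_mul, coe_Y (hpos _ (hm1 i)), coe_Y (hpos _ (hm1 j)), ExcDeg.x_rel hF4 dat (hm1 i) (hm1 j),
        hpa, if_neg Bool.false_ne_true, xG_zero, mul_one]
    · have e : Y F (pa i).1 * Y F (pa i).2 = Y F (pa i).2 * Y F (pa i).1 * Y F 47 := by
        apply mt_inj
        rw [mt_mul, mt_mul, mt_mul, coe_Y (hpos _ (hm1 i)), coe_Y (hpos _ (hm2 i)), coe_Y (pos_Cs 47 h47),
          ExcDeg.x_rel hF4 dat (hm1 i) (hm2 i), hpb, if_pos (by simp), one_mul]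
      rw [hop, hop, e, ← hop, (hWt l v).1 hv 47 h47, hval47, hsgt, neg_smul, one_smul, map_neg]
    · rw [hop, hop]
      congr 2
      apply mt_inj
      rw [mt_mul, mt_mul, coe_Y (hpos _ (hm1 i)), coe_Y (hpos _ (hm2 j)), ExcDeg.x_rel hF4 dat (hm1 i) (hm2 j),
        hpb, if_neg (by simp [hij]), xG_zero, mul_one]
  obtain ⟨l0, hl0, hne0⟩ := hA
  obtain ⟨S, hS, hSP⟩ := reach (fun l => Wt l ≠ ⊥) hB l0 hl0 hne0
  have hfin := card_mul_le (κ := ↥S) (ι := ↥(Cs.toFinset)) (fun c => op (Y F c)) (fun c c' => by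
      apply LinearMap.ext
      intro v
      change op (Y F c) (op (Y F c') v) = op (Y F c') (op (Y F c) v)
      rw [hop, hop, Y_comm (List.mem_cons_of_mem _ (List.mem_toFinset.1 c.2))
        (List.mem_cons_of_mem _ (List.mem_toFinset.1 c'.2))])
    (fun l c => sg (val l c)) (by
      intro l l' hll
      apply Subtype.ext
      refine val_inj l (hSP l l.2).1 l' (hSP l' l'.2).1 fun c hcm => ?_
      have h3 := congrFun hll ⟨c, List.mem_toFinset.2 hcm⟩
      change sg (val l c) = sg (val l' c) at h3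
      have hne : (-1 : k) ≠ 1 := fun h => h2 (by linear_combination -h)
      cases h4 : val l c <;> cases h5 : val l' c
      · rfl
      · rw [h4, h5, hsgt, hsgf] at h3
        exact absurd h3.symm hne
      · rw [h4, h5, hsgt, hsgf] at h3
        exact absurd h3 hne
      · rfl)
    (fun l => Wt l) (fun l v hv c => (hWt l v).1 hv c (List.mem_cons_of_mem _ (List.mem_toFinset.1 c.2))) 16
    (fun l => by
      have := hC l (hSP l l.2).2
      norm_num at this
      exact this)
  rw [Fintype.card_coe] at hfin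
  omega

end Main

end Cfsg.Agent.H340.F4Two
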