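import Cfsg.Agent.H340.Deg
import Cfsg.Prelude.Def_LieTypeChar
/-!
# Exceptional groups of odd characteristic have no sections with a "big" `2`-subgroup (helper340)

* `IsExcChar p X` : `X` of type `G2, F4, E6, E7, E8, 2E6, 3D4, 2G2` in characteristic `p`;
* `IsExcChar.exists_rep` : such an `X` has a faithful representation of degree at most `248` over a field of
  characteristic `p`;
* `Big K` : `K` has a `2`-subgroup without faithful representation of degree at most `248` in odd characteristic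
  (`Big.of_HC`: extraspecial configuration with `8` pairs, `Big.of_FC`: configuration over `F_q`, `q ≥ 4`, with `4`
  pairs);
* `Big.not_exc` : no subgroup `H` of `X` has `H / (odd order) ≅ K`.
-/

set_option autoImplicit false

namespace Cfsg.Agent.H340

open Cfsg Module

universe u v

/-- Exceptional groups of characteristic `p` (Suzuki groups and `2F4` excluded). -/
def IsExcChar (p : ℕ) (X : Type*) [Group X] : Prop :=
  IsExceptionalChevChar p X ∨ IsTwistedE6D4Char p X ∨ (p = 3 ∧ Lie.IsoRee X)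

/-- `X` has a faithful representation of degree at most `n` over a field of characteristic `≠ 2`. -/
def HasRep (n : ℕ) (X : Type*) [Group X] : Prop :=
  ∃ (k : Type) (_ : Field k) (V : Type) (_ : AddCommGroup V) (_ : Module k V) (_ : FiniteDimensional k V),
    (2 : k) ≠ 0 ∧ finrank k V ≤ n ∧ ∃ ρ : X →* (Module.End k V)ˣ, Function.Injective ρ

theorem HasRep.mono {n m : ℕ} {X : Type*} [Group X] (h : HasRep n X) (hnm : n ≤ m) : HasRep m X := by
  obtain ⟨k, i1, V, i2, i3, i4, h2, hn, h⟩ := h
  exact ⟨k, i1, V, i2, i3, i4, h2, hn.trans hnm, h⟩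

theorem HasRep.comp {n : ℕ} {X : Type u} [Group X] {Y : Type v} [Group Y] (h : HasRep n X) (f : Y →* X)
    (hf : Function.Injective f) : HasRep n Y := by
  obtain ⟨k, i1, V, i2, i3, i4, h2, hn, ρ, hρ⟩ := h
  exact ⟨k, i1, V, i2, i3, i4, h2, hn, ρ.comp f, hρ.comp hf⟩

theorem hasRep_GL {ι : Type} [Fintype ι] [DecidableEq ι] {F : Type} [Field F] (h2 : (2 : F) ≠ 0) :
    HasRep (Fintype.card ι) (Matrix.GeneralLinearGroup ι F) := by
  refine ⟨F, inferInstance, ι → F, inferInstance, inferInstance, inferInstance, h2, ?_,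
    (Matrix.GeneralLinearGroup.toLin (n := ι) (R := F)).toMonoidHom, MulEquiv.injective _⟩
  rw [Module.finrank_fintype_fun_eq_card]

theorem IsExcChar.hasRep {p : ℕ} (hp2 : p ≠ 2) {X : Type*} [Group X] (hX : IsExcChar p X) : HasRep 248 X := by
  have key : ∀ (D : Lie.ChevalleyDatum) (F : Type) [Field F] (_ : CharP F p) (S : Subgroup (Matrix.GeneralLinearGroup D.Idx F)),
      D.rank + D.nroots ≤ 248 → Nonempty (X ≃* S) → HasRep 248 X := by
    intro D F _ hF S hD ⟨e⟩
    have h2 : (2 : F) ≠ 0 := by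
      intro h
      have h3 : ((2 : ℕ) : F) = 0 := by exact_mod_cast h
      rw [CharP.cast_eq_zero_iff F p] at h3
      rcases (Nat.dvd_prime Nat.prime_two).1 h3 with h | h
      · rw [h] at hF
        exact CharP.false_of_nontrivial_of_char_one (R := F)
      · exact hp2 h
    refine ((hasRep_GL (ι := D.Idx) (F := F) h2).mono ?_).comp (S.subtype.comp e.toMonoidHom)
      (S.subtype_injective.comp e.injective)
    rw [Fintype.card_sum, Fintype.card_fin, Fintype.card_fin]
    exact hD
  rcases hX with ⟨F, _, _, hc, h⟩ | ⟨K, _, _, hc, q, -, h⟩ | ⟨rfl, K, _, _, m, -, hcard, h⟩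
  · rcases h with ⟨-, h⟩ | h | h | h | h
    · exact key Lie.chevG2 F hc _ (by decide) h
    · exact key Lie.chevF4 F hc _ (by decide) h
    · exact key Lie.chevE6 F hc _ (by decide) h
    · exact key Lie.chevE7 F hc _ (by decide) h
    · exact key Lie.chevE8 F hc _ (by decide) h
  · rcases h with ⟨-, h⟩ | ⟨-, h⟩
    · exact key Lie.chevE6 K hc _ (by decide) h
    · exact key Lie.chevD4 K hc _ (by decide) h
  · have hc : CharP K 3 := by
      obtain ⟨r, hr⟩ := CharP.exists K
      have hrp : r.Prime := (CharP.char_is_prime_or_zero K r).resolve_right (CharP.char_ne_zero_of_finite K r)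
      have := Fact.mk hrp
      obtain ⟨n, -, hn⟩ := FiniteField.card K r
      have h3 : r ∣ 3 ^ (2 * m + 1) := by rw [← hcard, hn]; exact dvd_pow_self r n.ne_zero
      rw [(Nat.prime_dvd_prime_iff_eq hrp Nat.prime_three).1 (hrp.dvd_of_dvd_pow h3)] at hr
      exact hr
    exact key Lie.chevG2 K hc _ (by decide) h

/-- `K` has a `2`-subgroup without faithful representation of degree at most `248` in odd characteristic. -/
def Big (K : Type*) [Group K] : Prop := ∃ T : Subgroup K, IsPGroup 2 T ∧ ¬ HasRep 248 T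

theorem Big.of_HC {K : Type*} [Group K] {m : ℕ} (hm : 8 ≤ m) (T : Subgroup K) (hT : IsPGroup 2 T)
    (h : Deg.HC T m) : Big K := by
  refine ⟨T, hT, ?_⟩
  rintro ⟨k, i1, V, i2, i3, i4, h2, hn, ρ, hρ⟩
  have h1 := h.le h2 ρ hρ
  have h3 : 2 ^ 8 ≤ 2 ^ m := Nat.pow_le_pow_right (by norm_num) hm
  omega

theorem Big.of_FC {K : Type*} [Group K] {F : Type*} [Field F] [Finite F] [CharP F 2]
    (hF : ∃ ω : F, ω ≠ 0 ∧ ω ≠ 1) {m : ℕ} (hm : 4 ≤ m) (T : Subgroup K) (hT : IsPGroup 2 T)
    (h : Deg.FC T F m) : Big K := by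
  refine ⟨T, hT, ?_⟩
  rintro ⟨k, i1, V, i2, i3, i4, h2, hn, ρ, hρ⟩
  have h1 := h.le h2 hF ρ hρ
  have h3 : 2 ^ 8 ≤ 2 ^ (2 * m) := Nat.pow_le_pow_right (by norm_num) (by omega)
  omega

theorem Big.congr {K K' : Type*} [Group K] [Group K'] (e : K ≃* K') (h : Big K) : Big K' := by
  obtain ⟨T, hT, h⟩ := h
  refine ⟨T.map e.toMonoidHom, hT.map _, fun h' => h ?_⟩
  exact h'.comp (T.equivMapOfInjective e.toMonoidHom e.injective).toMonoidHom (MulEquiv.injective _)

/-- **No section `H / (odd)` of an exceptional group of odd characteristic is big.** -/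
theorem Big.not_exc {K : Type*} [Group K] (hK : Big K) {p : ℕ} (hp2 : p ≠ 2) {X : Type*} [Group X] [Finite X]
    (hX : IsExcChar p X) {L : Type*} [Group L] (i : L →* X) (hi : Function.Injective i) (π : L →* K)
    (hπ : Function.Surjective π) (ho : Odd (Nat.card π.ker)) : False := by
  obtain ⟨T, hT, h⟩ := hK
  have : Finite L := Finite.of_injective _ hi
  obtain ⟨f, hf⟩ := Deg.exists_lift π hπ ho T hT
  exact h ((hX.hasRep hp2).comp (i.comp f) (hi.comp hf))

end Cfsg.Agent.H340
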