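import Mathlib
/-!
# Composition factors (helper340)

`CF P G` : every nonabelian simple quotient of a subnormal subgroup of `G` satisfies `P`.
Closure under subnormal subgroups, quotients, extensions, products.
-/

set_option autoImplicit false

namespace Cfsg.Agent.H340

universe u v w

/-- `CF P G`: every nonabelian simple quotient of a subnormal subgroup of `G` satisfies `P`. -/
def CF (P : ∀ (S : Type u) [Group S], Prop) (G : Type v) [Group G] : Prop :=
  ∀ (H : Subgroup G), H.IsSubnormal → ∀ (S : Type u) [Group S] [IsSimpleGroup S],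
    (∃ a b : S, a * b ≠ b * a) → ∀ f : ↥H →* S, Function.Surjective f → P S

variable {P : ∀ (S : Type u) [Group S], Prop} {G : Type v} [Group G] {G' : Type w} [Group G']

/-- A homomorphism with subnormal range, injective. -/
theorem CF.of_injective (h : CF P G) (g : G' →* G) (hg : Function.Injective g)
    (hr : g.range.IsSubnormal) : CF P G' := by
  intro H hH S _ _ hS f hf
  have h1 : (H.map g).IsSubnormal := by
    have h2 : (H.map g.rangeRestrict).IsSubnormal := hH.map g.rangeRestrict_surjective
    have h3 := h2.trans' hr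
    rw [Subgroup.map_map] at h3
    exact h3
  let e : ↥H ≃* ↥(H.map g) := H.equivMapOfInjective g hg
  exact h _ h1 S hS (f.comp e.symm.toMonoidHom) (hf.comp e.symm.surjective)

theorem CF.subgroup (h : CF P G) {H : Subgroup G} (hH : H.IsSubnormal) : CF P ↥H :=
  h.of_injective H.subtype H.subtype_injective (by rwa [Subgroup.range_subtype])

theorem CF.normal (h : CF P G) (H : Subgroup G) [hH : H.Normal] : CF P ↥H :=
  h.subgroup hH.isSubnormal

theorem CF.congr (h : CF P G) (e : G ≃* G') : CF P G' :=
  h.of_injective e.symm.toMonoidHom e.symm.injective (by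
    rw [MonoidHom.range_eq_top_of_surjective _ e.symm.surjective]
    exact Subgroup.IsSubnormal.top)

theorem CF.of_surjective (h : CF P G) (g : G →* G') (hg : Function.Surjective g) : CF P G' := by
  intro H hH S _ _ hS f hf
  have h1 : (H.comap g).IsSubnormal := hH.comap g
  let k : ↥(H.comap g) →* ↥H := (g.comp (H.comap g).subtype).codRestrict H (fun x => x.2)
  have hk : Function.Surjective k := by
    intro y
    obtain ⟨x, hx⟩ := hg (y : G')
    exact ⟨⟨x, by rw [Subgroup.mem_comap, hx]; exact y.2⟩, Subtype.ext hx⟩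
  exact h _ h1 S hS (f.comp k) (hf.comp hk)

theorem CF.quotient (h : CF P G) (N : Subgroup G) [N.Normal] : CF P (G ⧸ N) :=
  h.of_surjective (QuotientGroup.mk' N) (QuotientGroup.mk'_surjective N)

/-- Extensions. -/
theorem CF.of_ext (g : G →* G') (hg : Function.Surjective g) (h1 : CF P ↥g.ker) (h2 : CF P G') :
    CF P G := by
  intro H hH S _ hSs hS f hf
  have hn : (g.ker.subgroupOf H).Normal := inferInstance
  have hm : ((g.ker.subgroupOf H).map f).Normal := hn.map f hf
  rcases hm.eq_bot_or_eq_top with hb | ht
  · -- factor through the image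
    have hker : (g.subgroupMap H).ker ≤ f.ker := by
      intro x hx
      rw [MonoidHom.mem_ker] at hx ⊢
      have hx' : g (x : G) = 1 := congrArg Subtype.val hx
      have h3 : f x ∈ (g.ker.subgroupOf H).map f :=
        ⟨x, Subgroup.mem_subgroupOf.2 (MonoidHom.mem_ker.2 hx'), rfl⟩
      rw [hb] at h3
      exact Subgroup.mem_bot.1 h3
    let k : ↥(H.map g) →* S :=
      (g.subgroupMap H).liftOfSurjective (g.subgroupMap_surjective H) ⟨f, hker⟩
    have hk : ∀ x, k (g.subgroupMap H x) = f x := fun x =>
      MonoidHom.liftOfRightInverse_comp_apply _ _ _ _ x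
    refine h2 (H.map g) (hH.map hg) S hS k ?_
    intro y
    obtain ⟨x, rfl⟩ := hf y
    exact ⟨g.subgroupMap H x, hk x⟩
  · let k : ↥(H.subgroupOf g.ker) →* S :=
      f.comp ((g.ker.subtype.comp (H.subgroupOf g.ker).subtype).codRestrict H (fun x => x.2))
    refine h1 (H.subgroupOf g.ker) hH.subgroupOf S hS k ?_
    intro y
    have hy : y ∈ (g.ker.subgroupOf H).map f := by rw [ht]; exact Subgroup.mem_top y
    obtain ⟨x, hx, rfl⟩ := hy
    exact ⟨⟨⟨(x : G), Subgroup.mem_subgroupOf.1 hx⟩, x.2⟩, rfl⟩

/-- Extensions, for a not necessarily surjective homomorphism. -/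
theorem CF.of_ext_range (g : G →* G') (h1 : CF P ↥g.ker) (h2 : CF P ↥g.range) : CF P G := by
  refine CF.of_ext g.rangeRestrict g.rangeRestrict_surjective ?_ h2
  rw [g.ker_rangeRestrict]
  exact h1

theorem CF.of_normal (N : Subgroup G) [N.Normal] (h1 : CF P ↥N) (h2 : CF P (G ⧸ N)) : CF P G := by
  refine CF.of_ext (QuotientGroup.mk' N) (QuotientGroup.mk'_surjective N) ?_ h2
  rw [QuotientGroup.ker_mk']
  exact h1

/-- Solvable groups have no nonabelian composition factors. -/
theorem CF.of_solvable (h : Group.IsSolvable G) : CF P G := by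
  intro H _ S _ _ hS f hf
  exfalso
  have h1 : Group.IsSolvable ↥H := inferInstance
  have h2 : Group.IsSolvable S := Group.isSolvable_of_surjective hf
  obtain ⟨a, b, hab⟩ := hS
  exact hab (IsSimpleGroup.comm_iff_isSolvable.2 h2 a b)

/-- A simple group. -/
theorem CF.of_simple [IsSimpleGroup G] (h : ∀ (S : Type u) [Group S], Nonempty (S ≃* G) → P S) :
    CF P G := by
  intro H hH S _ hSs hS f hf
  rcases hH.eq_bot_or_top_of_isSimpleGroup inferInstance with rfl | rfl
  · exfalso
    obtain ⟨a, b, hab⟩ := hS
    obtain ⟨a', rfl⟩ := hf a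
    obtain ⟨b', rfl⟩ := hf b
    have h1 : a' = b' := Subsingleton.elim _ _
    rw [h1] at hab
    exact hab rfl
  · let k : G →* S := f.comp Subgroup.topEquiv.symm.toMonoidHom
    have hk : Function.Surjective k := hf.comp Subgroup.topEquiv.symm.surjective
    have hinj : Function.Injective k := by
      rw [← MonoidHom.ker_eq_bot_iff]
      rcases (inferInstance : k.ker.Normal).eq_bot_or_eq_top with h1 | h1
      · exact h1
      · exfalso
        obtain ⟨a, b, hab⟩ := hS
        obtain ⟨a', rfl⟩ := hk a
        obtain ⟨b', rfl⟩ := hk b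
        have h2 : ∀ x, k x = 1 := fun x => by
          rw [← MonoidHom.mem_ker, h1]; exact Subgroup.mem_top x
        rw [h2, h2] at hab
        exact hab rfl
    exact h S ⟨(MulEquiv.ofBijective k ⟨hinj, hk⟩).symm⟩

/-- A group with commutative quotient by a good kernel. -/
theorem CF.of_hom_comm {A : Type w} [CommGroup A] (g : G →* A) (h : CF P ↥g.ker) : CF P G :=
  CF.of_ext_range g h (CF.of_solvable inferInstance)

theorem CF.of_central {Z : Subgroup G} [Z.Normal] (hZ : Z ≤ Subgroup.center G) (h : CF P (G ⧸ Z)) :
    CF P G := by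
  refine CF.of_normal Z (CF.of_solvable ?_) h
  exact Group.isSolvable_of_comm fun a b => Subtype.ext ((Subgroup.mem_center_iff.1 (hZ b.2) a))

theorem CF.of_solvable_quotient {N : Subgroup G} [N.Normal] (h : CF P ↥N)
    (hs : Group.IsSolvable (G ⧸ N)) : CF P G :=
  CF.of_normal N h (CF.of_solvable hs)

theorem CF.prod (h1 : CF P G) (h2 : CF P G') : CF P (G × G') := by
  refine CF.of_ext (MonoidHom.snd G G') Prod.snd_surjective ?_ h2
  let e : G ≃* ↥(MonoidHom.snd G G').ker :=
    { toFun := fun g => ⟨(g, 1), rfl⟩
      invFun := fun x => (x : G × G').1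
      left_inv := fun _ => rfl
      right_inv := fun x => Subtype.ext (Prod.ext rfl (MonoidHom.mem_ker.1 x.2).symm)
      map_mul' := fun a b => Subtype.ext (Prod.ext rfl (one_mul _).symm) }
  exact h1.congr e

theorem CF.mono {Q : ∀ (S : Type u) [Group S], Prop} (hPQ : ∀ (S : Type u) [Group S], P S → Q S)
    (h : CF P G) : CF Q G :=
  fun H hH S _ _ hS f hf => hPQ S (h H hH S hS f hf)

/-- A group with a family of homomorphisms with trivial common kernel onto good groups
whose index type is finite. -/
theorem CF.of_family {ι : Type w} [Finite ι] {X : ι → Type w} [∀ i, Group (X i)]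
    (f : ∀ i, G →* X i) (hf : ∀ i, Function.Surjective (f i)) (hX : ∀ i, CF P (X i))
    (hk : Group.IsSolvable ↥(⨅ i, (f i).ker)) : CF P G := by
  classical
  have := Fintype.ofFinite ι
  have key : ∀ s : Finset ι, ∀ (N : Subgroup G) [N.Normal], (∀ x, x ∈ N ↔ ∀ i ∈ s, f i x = 1) →
      CF P (G ⧸ N) := by
    intro s
    induction s using Finset.induction_on with
    | empty =>
      intro N hN hN'
      have h1 : N = ⊤ := by
        rw [eq_top_iff]; intro x _; rw [hN']; intro i hi; simp at hi
      subst h1
      have : Subsingleton (G ⧸ (⊤ : Subgroup G)) := QuotientGroup.subsingleton_quotient_top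
      exact CF.of_solvable inferInstance
    | insert a s ha ih =>
      intro N hN hN'
      -- the homomorphism `G ⧸ N → X a`
      have hle : N ≤ (f a).ker := fun x hx => MonoidHom.mem_ker.2 ((hN' x).1 hx a (Finset.mem_insert_self a s))
      let k : G ⧸ N →* X a := QuotientGroup.lift N (f a) hle
      have hk1 : ∀ x : G, k (QuotientGroup.mk x) = f a x := fun x => rfl
      have hks : Function.Surjective k := by
        intro y
        obtain ⟨x, rfl⟩ := hf a y
        exact ⟨QuotientGroup.mk x, rfl⟩
      refine CF.of_ext k hks ?_ (hX a)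
      -- the kernel embeds as a normal subgroup in `G ⧸ M`
      let M : Subgroup G := ⨅ i ∈ s, (f i).ker
      have hM : ∀ x, x ∈ M ↔ ∀ i ∈ s, f i x = 1 := by
        intro x
        simp only [M, Subgroup.mem_iInf, MonoidHom.mem_ker]
      have hMn : M.Normal := by
        refine ⟨fun x hx g => ?_⟩
        rw [hM] at hx ⊢
        intro i hi
        rw [map_mul, map_mul, hx i hi, mul_one, map_inv, mul_inv_cancel]
      have h1 := ih M hM
      have hNM : N ≤ M := by
        intro x hx
        rw [hM]
        intro i hi
        exact (hN' x).1 hx i (Finset.mem_insert_of_mem hi)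
      let j : G ⧸ N →* G ⧸ M := QuotientGroup.map N M (MonoidHom.id G) hNM
      have hj : Function.Surjective j := by
        intro y
        obtain ⟨x, rfl⟩ := QuotientGroup.mk_surjective y
        exact ⟨QuotientGroup.mk x, rfl⟩
      refine h1.of_injective (j.comp k.ker.subtype) ?_ ?_
      · rw [← MonoidHom.ker_eq_bot_iff, eq_bot_iff]
        intro x hx
        rw [Subgroup.mem_bot]
        apply Subtype.ext
        obtain ⟨y, hy⟩ := QuotientGroup.mk_surjective (x : G ⧸ N)
        have h2 : k (x : G ⧸ N) = 1 := x.2
        have h3 : j (x : G ⧸ N) = 1 := hx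
        rw [← hy] at h2 h3
        have h4 : f a y = 1 := h2
        have h5 : y ∈ M := (QuotientGroup.eq_one_iff y).1 h3
        have h6 : y ∈ N := by
          rw [hN']
          intro i hi
          rcases Finset.mem_insert.1 hi with rfl | hi
          · exact h4
          · exact (hM y).1 h5 i hi
        rw [← hy]
        exact (QuotientGroup.eq_one_iff y).2 h6
      · have h2 : (j.comp k.ker.subtype).range = k.ker.map j := by
          rw [MonoidHom.range_comp, Subgroup.range_subtype]
        rw [h2]
        exact ((inferInstance : k.ker.Normal).map j hj).isSubnormal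
  have hN : (⨅ i, (f i).ker).Normal := by
    refine ⟨fun x hx g => ?_⟩
    rw [Subgroup.mem_iInf] at hx ⊢
    intro i
    have := hx i
    rw [MonoidHom.mem_ker] at this ⊢
    rw [map_mul, map_mul, this, mul_one, map_inv, mul_inv_cancel]
  refine CF.of_normal (⨅ i, (f i).ker) (CF.of_solvable hk) (key Finset.univ _ ?_)
  intro x
  rw [Subgroup.mem_iInf]
  simp [MonoidHom.mem_ker]

/-- Products. -/
theorem CF.pi {ι : Type w} [Finite ι] {X : ι → Type w} [∀ i, Group (X i)] (hX : ∀ i, CF P (X i)) :
    CF P (∀ i, X i) := by
  classical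
  refine CF.of_family (fun i => Pi.evalMonoidHom X i) (fun i => Function.surjective_eval i) hX ?_
  have h1 : (⨅ i, (Pi.evalMonoidHom X i).ker) = ⊥ := by
    rw [eq_bot_iff]
    intro x hx
    rw [Subgroup.mem_iInf] at hx
    rw [Subgroup.mem_bot]
    funext i
    exact MonoidHom.mem_ker.1 (hx i)
  rw [h1]
  infer_instance

end Cfsg.Agent.H340
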