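import Cfsg.Agent.H340.ExcFin
import Cfsg.Agent.F42.FinalZ
import Cfsg.Agent.StdG24.Comm
import Cfsg.Agent.CTwoTab.B
import Cfsg.Agent.CpAut.TwoInnerB
/-!
# Standard subgroups of type `F₄(2)`: the Baby Monster (helper340)
-/

set_option autoImplicit false

universe u v w

namespace Cfsg.Agent.H340.ExcBaby

open Subgroup Cfsg Cfsg.Lie

/-- `C_G(F) = 1` and all the automorphisms of `F` are inner: `F = G` -/
theorem eq_top_of_inner {G : Type u} [Group G] {F : Subgroup G} [F.Normal] (hc : centralizer (F : Set G) = ⊥)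
    (hin : ∀ α : MulAut ↥F, ∃ g : ↥F, α = MulAut.conj g) : F = ⊤ := by
  rw [eq_top_iff]
  intro g _
  obtain ⟨f, hf⟩ := hin (MulAut.conjNormal g)
  have h1 : (f : G)⁻¹ * g ∈ centralizer (F : Set G) := by
    rw [mem_centralizer_iff]
    intro y hy
    have h2 := congrArg (fun α : MulAut ↥F => ((α ⟨y, hy⟩ : ↥F) : G)) hf
    change ((MulAut.conjNormal g ⟨y, hy⟩ : ↥F) : G) = (f : G) * y * (f : G)⁻¹ at h2
    rw [MulAut.conjNormal_apply] at h2
    change g * y * g⁻¹ = (f : G) * y * (f : G)⁻¹ at h2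
    have h3 : g * y = (f : G) * y * (f : G)⁻¹ * g := by rw [← h2, inv_mul_cancel_right]
    calc y * ((f : G)⁻¹ * g) = (f : G)⁻¹ * ((f : G) * y * (f : G)⁻¹ * g) := by group
      _ = (f : G)⁻¹ * (g * y) := by rw [← h3]
      _ = (f : G)⁻¹ * g * y := by rw [mul_assoc]
  rw [hc, mem_bot] at h1
  have h2 : g = f := by
    rw [inv_mul_eq_one] at h1
    exact h1.symm
  rw [h2]
  exact f.2

/-- balance: a standard subgroup has trivial odd core -/
theorem odd_bot {G : Type u} [Group G] [Finite G] {L : Subgroup G} (hL : IsStandardSubgroup L) {t : G}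
    (ht : orderOf t = 2) (htL : t ∈ centralizer (L : Set G)) (hbal : centralizerPPrimeCore 2 t = ⊥) :
    oddCore ↥L = ⊥ := by
  have h1 := (S1754.result L hL t ht htL).1
  have hLC : L ≤ centralizer ({t} : Set G) := by
    intro y hy
    rw [mem_centralizer_singleton_iff]
    exact mem_centralizer_iff.1 htL y hy
  have hn : (L.subgroupOf (centralizer ({t} : Set G))).Normal := by
    rw [normal_subgroupOf_iff_le_normalizer hLC]
    exact h1
  have h2 := Lib.Cores.map_subtype_pPrimeCore 2 hn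
  have h3 : pPrimeCore 2 ↥(centralizer ({t} : Set G)) = ⊥ := by
    unfold centralizerPPrimeCore at hbal
    rwa [Subgroup.map_eq_bot_iff_of_injective _ (Subgroup.subtype_injective _)] at hbal
  rw [h3, inf_bot_eq, Subgroup.map_eq_bot_iff_of_injective _ (Subgroup.subtype_injective _)] at h2
  have h4 := Lib.Cores.map_equiv_pPrimeCore (subgroupOfEquivOfLe hLC) 2
  rw [h2, Subgroup.map_bot] at h4
  exact h4.symm

/-- the balance condition in the Baby Monster -/
theorem bal {X : Type u} [Group X] [Finite X] (h : Spor.IsoB X) (t : X) (ht : orderOf t = 2) :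
    centralizerPPrimeCore 2 t = ⊥ := by
  have htt : t * t = 1 := by rw [← pow_two, ← ht, pow_orderOf_eq_one]
  have ht1 : t ≠ 1 := by
    rintro rfl
    rw [orderOf_one] at ht
    omega
  exact CTwoTab.bal_of ((OddHalf.D4.Spor.Baby.Final.sheet h).bal t htt ht1)

theorem inner {X : Type u} [Group X] (h : Spor.IsoB X) (α : MulAut X) : ∃ g : X, α = MulAut.conj g := by
  obtain ⟨e⟩ := h
  exact CpAut.TwoInner.inner_congr e CpAut.TwoInner.inner_b α

/-- **The Baby Monster has no standard subgroup of type `F₄(2)`.** -/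
theorem f4 {G : Type u} [Group G] [Finite G] (hF : IsSimpleGroup ↥(generalizedFittingSubgroup G))
    (hF' : ¬ IsMulCommutative ↥(generalizedFittingSubgroup G)) {L : Subgroup G} (hL : IsStandardSubgroup L)
    (hX : Spor.IsoB ↥(generalizedFittingSubgroup G)) {F : Type v} [Field F] [Fintype F] (hc : Fintype.card F = 2)
    (hLX : Nonempty ((↥L ⧸ oddCore ↥L) ≃* ↥(chevF4.group F))) : False := by
  have hFn : (generalizedFittingSubgroup G).Normal := Lib.GenFitting.genFitting_normal
  obtain ⟨-, hcF, t, htL, hto⟩ := H284.FStd.fstd hF hF' hL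
  have htop := eq_top_of_inner hcF (inner hX)
  let e0 : ↥(generalizedFittingSubgroup G) ≃* G := (MulEquiv.subgroupCongr htop).trans Subgroup.topEquiv
  have hB : Spor.IsoB G := by
    obtain ⟨e⟩ := hX
    exact ⟨e0.symm.trans e⟩
  have hs : IsSimpleGroup G := e0.symm.isSimpleGroup
  have hna : ¬ IsMulCommutative G := by
    intro h
    apply hF'
    refine ⟨⟨fun a b => ?_⟩⟩
    apply e0.injective
    rw [map_mul, map_mul]
    exact h.is_comm.comm _ _
  have hO : oddCore ↥L = ⊥ := odd_bot hL hto htL (bal hB t hto)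
  obtain ⟨e⟩ := hLX
  have e' : ↥L ≃* ↥(chevF4.group F) :=
    (QuotientGroup.quotientBot.symm.trans (QuotientGroup.quotientMulEquivOfEq hO.symm)).trans e
  exact F42.FinalZ.false_of_standard hna (StdG24.Comm.commHalf_of_bot (H284.FStd.core_eq_bot hF hF')) (bal hB) L hL hc
    ⟨e'⟩

/-- **Type `F₄`** (S3328 from the classification) -/
theorem f4_type {G : Type u} [Group G] [Finite G] {n : ℕ} (hk : IsKnownSimple' ↥(generalizedFittingSubgroup G))
    (hF : IsSimpleGroup ↥(generalizedFittingSubgroup G)) (hF' : ¬ IsMulCommutative ↥(generalizedFittingSubgroup G))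
    {L : Subgroup G} (hL : IsStandardSubgroup L) (hn : 1 ≤ n) {F : Type v} [Field F] [Fintype F]
    (hFq : Fintype.card F = 2 ^ n) (hLX : Nonempty ((↥L ⧸ oddCore ↥L) ≃* ↥(chevF4.group F))) :
    Nonempty (↥(generalizedFittingSubgroup G) ≃* ↥(chevE6.group F)) ∨
      (∃ (K : Type) (_ : Field K) (_ : Fintype K), Fintype.card K = (2 ^ n) ^ 2 ∧
        (Nonempty (↥(generalizedFittingSubgroup G) ≃* ↥(twistedE6 K (2 ^ n))) ∨
          Nonempty (↥(generalizedFittingSubgroup G) ≃* ↥(chevF4.group K)))) := by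
  obtain ⟨_, t, -, -, -, -, h⟩ := ExcStd.exists_hyp hF hF' hL hn (ExcFin.is_f4 hn hFq hLX)
  rcases ExcTab.main hF' hk h with h1 | ⟨hB, h1, -⟩
  · rcases h1 with h1 | h1 | h1
    · obtain ⟨K, _, _, hK, ⟨e⟩⟩ := h1
      exact Or.inr ⟨K, inferInstance, inferInstance, by rw [hK, mul_comm, pow_mul], Or.inr ⟨e⟩⟩
    · obtain ⟨K, _, _, hK, ⟨e⟩⟩ := h1
      obtain ⟨f⟩ := Cfsg.Agent.H902.Iso.chev_congr (FiniteField.ringEquivOfCardEq (hK.trans hFq.symm)) chevE6
      exact Or.inl ⟨e.trans f⟩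
    · obtain ⟨K, _, _, hK, ⟨e⟩⟩ := h1
      exact Or.inr ⟨K, inferInstance, inferInstance, hK, Or.inl ⟨e⟩⟩
  · subst h1
    exact (f4 hF hF' hL hB (by rw [hFq, pow_one]) hLX).elim

end Cfsg.Agent.H340.ExcBaby
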