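import Cfsg.Agent.H340.ExcBaby
import Cfsg.Agent.H340.BabyTe
/-!
# Standard subgroups of type `²E₆(2)` with centre of odd order: not in the Baby Monster (helper340)
-/

set_option autoImplicit false

universe u v w

namespace Cfsg.Agent.H340.ExcBaby

open Subgroup Cfsg Cfsg.Lie

/-- **The Baby Monster has no standard subgroup `L` with `L/O(L) ≅ ²E₆(2)`.** -/
theorem te6 {G : Type u} [Group G] [Finite G] (hF : IsSimpleGroup ↥(generalizedFittingSubgroup G))
    (hF' : ¬ IsMulCommutative ↥(generalizedFittingSubgroup G)) {L : Subgroup G} (hL : IsStandardSubgroup L)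
    (hX : Spor.IsoB ↥(generalizedFittingSubgroup G)) (hIs : ExcId.Is .TE6 1 (↥L ⧸ oddCore ↥L)) : False := by
  have hFn : (generalizedFittingSubgroup G).Normal := Lib.GenFitting.genFitting_normal
  obtain ⟨-, hcF, t, htL, hto⟩ := H284.FStd.fstd hF hF' hL
  have htop := eq_top_of_inner hcF (inner hX)
  let e0 : ↥(generalizedFittingSubgroup G) ≃* G := (MulEquiv.subgroupCongr htop).trans Subgroup.topEquiv
  have hB : Spor.IsoB G := by
    obtain ⟨e⟩ := hX
    exact ⟨e0.symm.trans e⟩
  have hLC : L ≤ centralizer ({t} : Set G) := by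
    intro y hy
    rw [mem_centralizer_singleton_iff]
    exact mem_centralizer_iff.1 htL y hy
  obtain ⟨hs, hna⟩ := hIs.simple le_rfl
  have hz := ExcStd.oddCore_eq_center hL.1 hs hna
  have hodd : Odd (Nat.card (center ↥L)) := by
    rw [← hz]
    exact Nat.coprime_two_right.1 (Lib.Cores.pPrimeCore_coprime 2)
  have hcard : Nat.card (↥L ⧸ center ↥L) = 76532479683774853939200 := by
    have h1 : Nat.card (↥L ⧸ oddCore ↥L) = 76532479683774853939200 := by
      obtain ⟨K, _, _, hK, ⟨e⟩⟩ := hIs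
      rw [Nat.card_congr e.toEquiv]
      exact Cfsg.Agent.BM.HBFinal.card_E K (by rw [hK]; norm_num)
    rw [← Subgroup.index_eq_card] at h1 ⊢
    rwa [hz] at h1
  rcases BabyTe.comp hB hto ⟨hLC, (S1754.result L hL t hto htL).2⟩ with ⟨-, h2⟩ | h2
  · exact (Nat.not_even_iff_odd.2 hodd) (even_iff_two_dvd.2 h2)
  · have h3 : Nat.card (↥L ⧸ center ↥L) ≤ Nat.card ↥L :=
      Nat.le_of_dvd Nat.card_pos (card_quotient_dvd_card (center ↥L))
    rw [hcard] at h3
    omega

/-- **Type `²E₆`** (S3327 from the classification) -/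
theorem te6_type {G : Type u} [Group G] [Finite G] {n : ℕ} (hk : IsKnownSimple' ↥(generalizedFittingSubgroup G))
    (hF : IsSimpleGroup ↥(generalizedFittingSubgroup G)) (hF' : ¬ IsMulCommutative ↥(generalizedFittingSubgroup G))
    {L : Subgroup G} (hL : IsStandardSubgroup L) (hn : 1 ≤ n) {K : Type v} [Field K] [Fintype K]
    (hK : Fintype.card K = (2 ^ n) ^ 2) (hLX : Nonempty ((↥L ⧸ oddCore ↥L) ≃* ↥(twistedE6 K (2 ^ n)))) :
    ∃ (K' : Type) (_ : Field K') (_ : Fintype K'), Fintype.card K' = (2 ^ n) ^ 2 ∧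
      Nonempty (↥(generalizedFittingSubgroup G) ≃* ↥(chevE6.group K')) := by
  have hIs := ExcFin.is_te6 hn hK hLX
  obtain ⟨_, t, -, -, -, -, h⟩ := ExcStd.exists_hyp hF hF' hL hn hIs
  rcases ExcTab.main hF' hk h with h1 | ⟨hB, h1, -⟩
  · exact ExcFin.out_sq h1
  · subst h1
    exact (te6 hF hF' hL hB hIs).elim

end Cfsg.Agent.H340.ExcBaby
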