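import Cfsg.Agent.H583.PFixed
/-!
# `p`-subgroups of `GL_4(F)`, `F` of characteristic `p`, are metabelian (helper340)
-/

set_option autoImplicit false

universe u v w

namespace Cfsg.Agent.H340.Metab

open Module

variable {F : Type u} [Field F] {V : Type v} [AddCommGroup V] [Module F V] {T : Type w} [Group T]
  (ρ : T →* Module.End F V)

/-- the vectors fixed modulo `W` -/
def nxt (W : Submodule F V) : Submodule F V where
  carrier := {v | ∀ t, ρ t v - v ∈ W}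
  zero_mem' := fun t => by rw [map_zero, sub_zero]; exact W.zero_mem
  add_mem' := fun {a b} ha hb t => by
    have : ρ t (a + b) - (a + b) = (ρ t a - a) + (ρ t b - b) := by rw [map_add]; abel
    rw [this]
    exact W.add_mem (ha t) (hb t)
  smul_mem' := fun c a ha t => by
    rw [map_smul, ← smul_sub]
    exact W.smul_mem c (ha t)

theorem mem_nxt {W : Submodule F V} {v : V} : v ∈ nxt ρ W ↔ ∀ t, ρ t v - v ∈ W := Iff.rfl

theorem le_nxt {W : Submodule F V} (hW : ∀ t, ∀ v ∈ W, ρ t v ∈ W) : W ≤ nxt ρ W :=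
  fun v hv t => W.sub_mem (hW t v hv) hv

theorem nxt_inv {W : Submodule F V} (hW : ∀ t, ∀ v ∈ W, ρ t v ∈ W) : ∀ t, ∀ v ∈ nxt ρ W, ρ t v ∈ nxt ρ W := by
  intro t v hv
  have h1 : ρ t v = v + (ρ t v - v) := by abel
  rw [h1]
  exact (nxt ρ W).add_mem hv (le_nxt ρ hW (hv t))

theorem lt_nxt [Finite T] {p : ℕ} [Fact p.Prime] [CharP F p] (hT : IsPGroup p T) {W : Submodule F V}
    (hW : ∀ t, ∀ v ∈ W, ρ t v ∈ W) (hne : W ≠ ⊤) : W < nxt ρ W := by
  refine lt_of_le_of_ne (le_nxt ρ hW) fun heq => ?_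
  let σ : T →* Module.End F (V ⧸ W) :=
    { toFun := fun t => W.mapQ W (ρ t) (fun v hv => hW t v hv)
      map_one' := by
        ext v
        change Submodule.Quotient.mk (ρ 1 v) = Submodule.Quotient.mk v
        rw [map_one]; rfl
      map_mul' := fun s t => by
        ext v
        change Submodule.Quotient.mk (ρ (s * t) v) = Submodule.Quotient.mk (ρ s (ρ t v))
        rw [map_mul]; rfl }
  have hσ : ∀ t v, σ t (Submodule.Quotient.mk v) = Submodule.Quotient.mk (ρ t v) := fun t v => rfl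
  have hntop : (⊤ : Submodule F (V ⧸ W)) ≠ ⊥ := by
    intro h
    apply hne
    rw [Submodule.eq_top_iff']
    intro v
    have h1 : (Submodule.Quotient.mk v : V ⧸ W) ∈ (⊥ : Submodule F (V ⧸ W)) := by rw [← h]; exact Submodule.mem_top
    rw [Submodule.mem_bot, Submodule.Quotient.mk_eq_zero] at h1
    exact h1
  obtain ⟨y, -, hy0, hy⟩ := Cfsg.Agent.H583.PFixed.exists_fixed hT σ ⊤ (fun _ _ _ => Submodule.mem_top) hntop
  obtain ⟨v, rfl⟩ := Submodule.Quotient.mk_surjective W y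
  apply hy0
  rw [Submodule.Quotient.mk_eq_zero, heq, mem_nxt]
  intro t
  rw [← Submodule.Quotient.mk_eq_zero W, Submodule.Quotient.mk_sub, ← hσ, hy, sub_self]

/-- commutators act trivially on two consecutive steps -/
theorem comm_sub {W : Submodule F V} {U : Submodule F V} (hU : U = nxt ρ W) (hW : ∀ t, ∀ v ∈ W, ρ t v ∈ W)
    {v : V} (hv : v ∈ nxt ρ U) (a b : T) : ρ (a⁻¹ * b⁻¹ * a * b) v - v ∈ W := by
  have e : ∀ s t, ρ (s * t) v - ρ (t * s) v ∈ W := by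
    intro s t
    have h1 := (mem_nxt ρ (W := W)).1 (hU ▸ (mem_nxt ρ).1 hv t) s
    have h2 := (mem_nxt ρ (W := W)).1 (hU ▸ (mem_nxt ρ).1 hv s) t
    have h3 : ρ (s * t) v - ρ (t * s) v = (ρ s (ρ t v - v) - (ρ t v - v)) - (ρ t (ρ s v - v) - (ρ s v - v)) := by
      rw [map_mul, map_mul, Module.End.mul_apply, Module.End.mul_apply, map_sub, map_sub]
      abel
    rw [h3]
    exact W.sub_mem h1 h2
  have h4 : ρ (a⁻¹ * b⁻¹ * a * b) v - v = ρ ((b * a)⁻¹) (ρ (a * b) v - ρ (b * a) v) := by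
    rw [map_sub, ← Module.End.mul_apply, ← Module.End.mul_apply, ← map_mul, ← map_mul, inv_mul_cancel, map_one,
      Module.End.one_apply, mul_inv_rev, mul_assoc (a⁻¹ * b⁻¹)]
  rw [h4]
  exact hW _ _ (e a b)

/-- **Metabelian.** -/
theorem metab [FiniteDimensional F V] [Finite T] {p : ℕ} [Fact p.Prime] [CharP F p] (hT : IsPGroup p T)
    (hd : finrank F V ≤ 4) (hρ : Function.Injective ρ) (a b c d : T) :
    (a⁻¹ * b⁻¹ * a * b) * (c⁻¹ * d⁻¹ * c * d) = (c⁻¹ * d⁻¹ * c * d) * (a⁻¹ * b⁻¹ * a * b) := by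
  let W1 := nxt ρ ⊥
  let W2 := nxt ρ W1
  let W3 := nxt ρ W2
  have h0 : ∀ t, ∀ v ∈ (⊥ : Submodule F V), ρ t v ∈ (⊥ : Submodule F V) := by
    intro t v hv
    rw [Submodule.mem_bot] at hv ⊢
    rw [hv, map_zero]
  have h1 : ∀ t, ∀ v ∈ W1, ρ t v ∈ W1 := nxt_inv ρ h0
  have h2 : ∀ t, ∀ v ∈ W2, ρ t v ∈ W2 := nxt_inv ρ h1
  have h3 : ∀ t, ∀ v ∈ W3, ρ t v ∈ W3 := nxt_inv ρ h2
  have htop : nxt ρ W3 = ⊤ := by
    have key : ∀ W : Submodule F V, (∀ t, ∀ v ∈ W, ρ t v ∈ W) → ∀ n : ℕ, (n ≤ finrank F W ∨ W = ⊤) →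
        (n + 1 ≤ finrank F (nxt ρ W) ∨ nxt ρ W = ⊤) := by
      intro W hW n hn
      by_cases ht : W = ⊤
      · right
        rw [eq_top_iff, ← ht]
        exact le_nxt ρ hW
      · left
        have h5 := Submodule.finrank_lt_finrank_of_lt (lt_nxt ρ hT hW ht)
        have h6 := hn.resolve_right ht
        omega
    have k1 := key ⊥ h0 0 (Or.inl (Nat.zero_le _))
    have k2 := key W1 h1 1 k1
    have k3 := key W2 h2 2 k2
    have k4 := key W3 h3 3 k3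
    rcases k4 with k4 | k4
    · exact Submodule.eq_top_of_finrank_eq (le_antisymm (Submodule.finrank_le _) (hd.trans k4))
    · exact k4
  have hz1 : ∀ (a b : T) (v : V), ρ (a⁻¹ * b⁻¹ * a * b) v - v ∈ W2 := fun a b v =>
    comm_sub ρ (W := W2) (U := W3) rfl h2 (by rw [htop]; exact Submodule.mem_top) a b
  have hz2 : ∀ (a b : T), ∀ v ∈ W2, ρ (a⁻¹ * b⁻¹ * a * b) v = v := by
    intro a b v hv
    have h5 := comm_sub ρ (W := ⊥) (U := W1) rfl h0 hv a b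
    rw [Submodule.mem_bot] at h5
    exact sub_eq_zero.1 h5
  apply hρ
  ext v
  have e0 : ∀ x y : T, ρ (x * y) v = ρ x (ρ y v) := fun x y => by rw [map_mul]; rfl
  rw [e0 (a⁻¹ * b⁻¹ * a * b) (c⁻¹ * d⁻¹ * c * d), e0 (c⁻¹ * d⁻¹ * c * d) (a⁻¹ * b⁻¹ * a * b)]
  have e1 := hz2 a b _ (hz1 c d v)
  have e2 := hz2 c d _ (hz1 a b v)
  rw [map_sub] at e1 e2
  have e3 : ρ (a⁻¹ * b⁻¹ * a * b) (ρ (c⁻¹ * d⁻¹ * c * d) v) =
      ρ (c⁻¹ * d⁻¹ * c * d) v - v + ρ (a⁻¹ * b⁻¹ * a * b) v := by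
    rw [← e1]; abel
  have e4 : ρ (c⁻¹ * d⁻¹ * c * d) (ρ (a⁻¹ * b⁻¹ * a * b) v) =
      ρ (a⁻¹ * b⁻¹ * a * b) v - v + ρ (c⁻¹ * d⁻¹ * c * d) v := by
    rw [← e2]; abel
  rw [e3, e4]
  abel

end Cfsg.Agent.H340.Metab
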