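import Cfsg.Agent.H340.ExcId
import Cfsg.Agent.H340.Metab
/-!
# The groups of type `E₆, E₇, E₈, ²E₆, F₄` in characteristic two have non-metabelian `2`-subgroups (helper340)

Hence they do not embed in `GL_4(F)`, `F` of characteristic two.
-/

set_option autoImplicit false
set_option linter.unusedSectionVars false

universe u v w

namespace Cfsg.Agent.H340.ExcNM

open Cfsg Cfsg.Lie Cfsg.Lie.ChevalleyDatum Cfsg.Agent.ChevalleyStructure Cfsg.Agent.ChevalleyStructure.Elts
  Cfsg.Agent.Omega.TwoF.ChevHeis Cfsg.Agent.H340.ExcDeg Cfsg.Agent.H340.ExcId Module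

/-- two commutators which do not commute -/
def NM (T : Type*) [Group T] : Prop :=
  ∃ a b c d : T, (a⁻¹ * b⁻¹ * a * b) * (c⁻¹ * d⁻¹ * c * d) ≠ (c⁻¹ * d⁻¹ * c * d) * (a⁻¹ * b⁻¹ * a * b)

/-- a `2`-subgroup which is not metabelian -/
def HasNM (S : Type*) [Group S] : Prop := ∃ T : Subgroup S, IsPGroup 2 T ∧ NM T

theorem HasNM.congr {S : Type u} {S' : Type v} [Group S] [Group S'] (e : S ≃* S') (h : HasNM S) : HasNM S' := by
  obtain ⟨T, hT, a, b, c, d, h⟩ := h
  let f := T.equivMapOfInjective e.toMonoidHom e.injective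
  refine ⟨T.map e.toMonoidHom, hT.map _, f a, f b, f c, f d, fun h' => h ?_⟩
  apply f.injective
  simpa only [map_mul, map_inv] using h'

/-- **No embedding in `GL_4(F)`.** -/
theorem HasNM.not_rep {S : Type u} [Group S] [Finite S] (h : HasNM S) {F : Type v} [Field F] [CharP F 2]
    {V : Type w} [AddCommGroup V] [Module F V] [FiniteDimensional F V] (hd : finrank F V ≤ 4)
    (ρ : S →* Module.End F V) (hρ : Function.Injective ρ) : False := by
  obtain ⟨T, hT, a, b, c, d, h⟩ := h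
  have : Fact (Nat.Prime 2) := ⟨Nat.prime_two⟩
  exact h (Metab.metab (p := 2) (ρ.comp T.subtype) hT hd (hρ.comp T.subtype_injective) a b c d)

section

variable {D : ChevalleyDatum} (hD : InList D) {K : Type u} [Field K] [CharP K 2]

/-- `a + b = r` with constant `± 1`, all positive -/
def sm (D : ChevalleyDatum) (a b r : ℕ) : Bool :=
  (br D a b r 1 || br D a b r (-1)) && decide (D.IsPosRoot a) && decide (D.IsPosRoot b) && decide (D.IsPosRoot r)

include hD in
theorem rel_sm {a b r : ℕ} (h : sm D a b r = true) :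
    xG hD b (1 : K) * xG hD a 1 = xG hD a 1 * xG hD b 1 * xG hD r 1 := by
  simp only [sm, Bool.and_eq_true, Bool.or_eq_true] at h
  have hm1 : ((1 : ℤ) : K) = 1 := Int.cast_one
  have hm2 : ((-1 : ℤ) : K) = 1 := by rw [Int.cast_neg, Int.cast_one, ExcDeg.neg_eq']
  rcases h.1.1.1 with h1 | h1
  · have := br_x hD hm1 h1 (1 : K) 1
    rwa [one_mul] at this
  · have := br_x hD hm2 h1 (1 : K) 1
    rwa [one_mul] at this

include hD in
theorem hasNM [Fintype K] {a b r c d s t : ℕ} (h1 : sm D a b r = true) (h2 : sm D c d s = true)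
    (h3 : sm D r s t = true) (G : Subgroup (GL D.Idx K)) (ha : xG hD a (1 : K) ∈ G) (hb : xG hD b (1 : K) ∈ G)
    (hc : xG hD c (1 : K) ∈ G) (hd : xG hD d (1 : K) ∈ G) : HasNM ↥G := by
  have hT : IsPGroup 2 ↥((D.posUnipotent K).subgroupOf G) :=
    (isPGroup_pos (K := K) hD).comap_of_injective G.subtype Subtype.val_injective
  have hpos : ∀ {a b r : ℕ}, sm D a b r = true → D.IsPosRoot a ∧ D.IsPosRoot b ∧ D.IsPosRoot r := by
    intro a b r h
    simp only [sm, Bool.and_eq_true, decide_eq_true_eq] at h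
    exact ⟨h.1.1.2, h.1.2, h.2⟩
  obtain ⟨pa, pb, pr⟩ := hpos h1
  obtain ⟨pc, pd, ps⟩ := hpos h2
  obtain ⟨-, -, pt⟩ := hpos h3
  have r1 := rel_sm hD (K := K) h1
  have r2 := rel_sm hD (K := K) h2
  have r3 := rel_sm hD (K := K) h3
  have e1 : (xG hD b (1 : K))⁻¹ * (xG hD a 1)⁻¹ * xG hD b 1 * xG hD a 1 = xG hD r 1 := by
    rw [mul_assoc _ (xG hD b 1), r1]; group
  have e2 : (xG hD d (1 : K))⁻¹ * (xG hD c 1)⁻¹ * xG hD d 1 * xG hD c 1 = xG hD s 1 := by
    rw [mul_assoc _ (xG hD d 1), r2]; group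
  let X : ∀ k : ℕ, D.IsPosRoot k → xG hD k (1 : K) ∈ G → ↥((D.posUnipotent K).subgroupOf G) :=
    fun k hk hG => ⟨⟨xG hD k 1, hG⟩, xG_mem_posUnipotent hD hk 1⟩
  refine ⟨_, hT, X b pb hb, X a pa ha, X d pd hd, X c pc hc, fun h => ?_⟩
  have h4 : ((xG hD b (1 : K))⁻¹ * (xG hD a 1)⁻¹ * xG hD b 1 * xG hD a 1) *
      ((xG hD d (1 : K))⁻¹ * (xG hD c 1)⁻¹ * xG hD d 1 * xG hD c 1) =
      ((xG hD d (1 : K))⁻¹ * (xG hD c 1)⁻¹ * xG hD d 1 * xG hD c 1) *
      ((xG hD b (1 : K))⁻¹ * (xG hD a 1)⁻¹ * xG hD b 1 * xG hD a 1) :=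
    congrArg (fun y : ↥((D.posUnipotent K).subgroupOf G) => ((y : ↥G) : GL D.Idx K)) h
  rw [e1, e2, r3, left_eq_mul] at h4
  exact one_ne_zero ((xG_eq_one_iff hD pt.1 (1 : K)).1 h4)

end

open Cfsg.Agent.ChevalleyStructure.TwE6Basic (exists_frob hE6)

/-- the five types -/
theorem Is.hasNM {τ : Ty} {n : ℕ} (hn : 1 ≤ n) {S : Type u} [Group S] (h : Is τ n S) : HasNM S := by
  cases τ
  · obtain ⟨F, _, _, hF, ⟨e⟩⟩ := h
    have := charTwo hF
    have hD : InList chevE6 := by simp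
    exact (ExcNM.hasNM hD (K := F) (D := chevE6) (a := 39) (b := 46) (r := 47) (c := 44) (d := 63) (s := 69) (t := 71)
      (by decide +kernel) (by decide +kernel) (by decide +kernel) (chevE6.group F) (xG_mem_group hD _ _)
      (xG_mem_group hD _ _) (xG_mem_group hD _ _) (xG_mem_group hD _ _)).congr e.symm
  · obtain ⟨F, _, _, hF, ⟨e⟩⟩ := h
    have := charTwo hF
    have hD : InList chevE7 := by simp
    exact (ExcNM.hasNM hD (K := F) (D := chevE7) (a := 63) (b := 64) (r := 65) (c := 66) (d := 69) (s := 70) (t := 72)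
      (by decide +kernel) (by decide +kernel) (by decide +kernel) (chevE7.group F) (xG_mem_group hD _ _)
      (xG_mem_group hD _ _) (xG_mem_group hD _ _) (xG_mem_group hD _ _)).congr e.symm
  · obtain ⟨F, _, _, hF, ⟨e⟩⟩ := h
    have := charTwo hF
    have hD : InList chevE8 := by simp
    exact (ExcNM.hasNM hD (K := F) (D := chevE8) (a := 120) (b := 121) (r := 122) (c := 123) (d := 126) (s := 127)
      (t := 129) (by decide +kernel) (by decide +kernel) (by decide +kernel) (chevE8.group F) (xG_mem_group hD _ _)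
      (xG_mem_group hD _ _) (xG_mem_group hD _ _) (xG_mem_group hD _ _)).congr e.symm
  · obtain ⟨F, _, _, hF, ⟨e⟩⟩ := h
    have := charTwo (n := n * 2) (by rw [hF, pow_mul])
    obtain ⟨φ, hφ, hqq⟩ := exists_frob (isPP hn) hF
    have key : ∀ {k : ℕ}, k < 72 → TwistedE6Sigma.rho k = k → xG hE6 k (1 : F) ∈ twistedE6 F (2 ^ n) := by
      intro k hk hr
      have h1 := single_mem hφ hqq hk hr (one_pow (M := F) (2 ^ n))
      rwa [wordG_cons, wordG_nil, mul_one] at h1
    exact (ExcNM.hasNM hE6 (K := F) (D := chevE6) (a := 39) (b := 46) (r := 47) (c := 44) (d := 63) (s := 69)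
      (t := 71) (by decide +kernel) (by decide +kernel) (by decide +kernel) (twistedE6 F (2 ^ n))
      (key (by norm_num) (by decide)) (key (by norm_num) (by decide)) (key (by norm_num) (by decide))
      (key (by norm_num) (by decide))).congr e.symm
  · obtain ⟨F, _, _, hF, ⟨e⟩⟩ := h
    have := charTwo hF
    have hD : InList chevF4 := by simp
    exact (ExcNM.hasNM hD (K := F) (D := chevF4) (a := 24) (b := 25) (r := 26) (c := 30) (d := 42) (s := 45) (t := 47)
      (by decide +kernel) (by decide +kernel) (by decide +kernel) (chevF4.group F) (xG_mem_group hD _ _)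
      (xG_mem_group hD _ _) (xG_mem_group hD _ _) (xG_mem_group hD _ _)).congr e.symm

end Cfsg.Agent.H340.ExcNM
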