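import Cfsg.Agent.H340.ExcTab
import Cfsg.Agent.H340.ExcNM
import Cfsg.Agent.H292.RowAll
import Cfsg.Agent.H902.Compare
/-!
# Components of type `E₆, E₇, E₈, ²E₆, F₄`: the classical groups of characteristic two have none (helper340)
-/

set_option autoImplicit false

universe u v w

namespace Cfsg.Agent.H340.ExcTab

open Subgroup Cfsg Cfsg.Lie Cfsg.Agent.OrdDiv Cfsg.Agent.H902 Cfsg.Agent.H340.ExcId Cfsg.Agent.H902.Names

variable {τ : Ty} {n : ℕ} {X : Type u} [Group X] {x : MulAut X} {A : Subgroup ↥(fixedSubgroup x)}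
  {S : Type w} [Group S]

theorem nam (τ : Ty) (n : ℕ) : IsLie (nm τ (2 ^ n)) (sh τ) 2 n := by
  cases τ
  · exact .e6 2 n
  · exact .e7 2 n
  · exact .e8 2 n
  · exact .te6 2 n
  · exact .f4 2 n

/-- **`X` classical of characteristic two: impossible.** -/
theorem cls [Finite X] [IsSimpleGroup X] (hna : ¬ IsMulCommutative X) (h : Hyp τ n X x A S)
    (hX : Cfsg.Agent.H292.Rows.Cla X) : False := by
  have hlie : IsLieTypeChar 2 X := by
    rcases hX with h1 | h1 | h1 | h1 | h1
    · exact Or.inl h1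
    · exact Or.inr (Or.inr (Or.inl h1))
    · exact Or.inr (Or.inl h1)
    · exact Or.inr (Or.inr (Or.inr (Or.inr (Or.inl h1))))
    · exact Or.inr (Or.inr (Or.inr (Or.inr (Or.inr (Or.inl h1)))))
  have hA := h.isA' hna hlie
  have hr := hA.real h.one_le
  rcases Cfsg.Agent.H292.Rows.row_all hX with ⟨g, -, -, hout⟩ | hS
  · obtain ⟨g', hp, -, h2⟩ := hout x h.sq h.ne A h.comp
    have h3 : N2 (nm τ (2 ^ n)) (Nat.card ↥A) := Or.inr ⟨_, _, _, nam τ n, hr⟩
    have h4 : ¬ Exc (Nat.card ↥A) := by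
      have h5 := pos hr
      unfold Exc
      intro h6
      rcases h6 with h6 | h6 | h6 | h6 | h6 <;> (rw [h6] at h5; norm_num at h5)
    rcases n2_unique h3 h2 h4 with h5 | ⟨m, q, -, -, h5, -⟩ | ⟨m, q, -, -, h5, -⟩
    · subst h5
      cases τ <;> cases hp
    · cases τ <;> exact absurd h5 (by simp [nm])
    · cases τ <;> exact absurd h5 (by simp [nm])
  · obtain ⟨F, _, _, _, -, ⟨e⟩⟩ := hS
    -- `X ≅ PSp_4(F)`
    let f : ↥A →* Matrix (Fin 2 ⊕ Fin 2) (Fin 2 ⊕ Fin 2) F :=
      (Submonoid.subtype _).comp (((Cfsg.Agent.H292.SpCen.spEquiv 2).symm.toMonoidHom.comp e.toMonoidHom).comp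
        ((fixedSubgroup x).subtype.comp A.subtype))
    have hf : Function.Injective f := by
      refine Subtype.val_injective.comp ?_
      exact ((Cfsg.Agent.H292.SpCen.spEquiv 2).symm.injective.comp e.injective).comp
        ((fixedSubgroup x).subtype_injective.comp A.subtype_injective)
    let g : ↥A →* Module.End F (Fin 2 ⊕ Fin 2 → F) :=
      ((Matrix.toLinAlgEquiv' (R := F) (n := Fin 2 ⊕ Fin 2)).toMulEquiv.toMonoidHom).comp f
    have hg : Function.Injective g := (Matrix.toLinAlgEquiv' (R := F) (n := Fin 2 ⊕ Fin 2)).injective.comp hf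
    refine (ExcNM.Is.hasNM h.one_le hA).not_rep (F := F) (V := Fin 2 ⊕ Fin 2 → F) ?_ g hg
    rw [Module.finrank_fintype_fun_eq_card]
    simp

end Cfsg.Agent.H340.ExcTab
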