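import Cfsg.Agent.H340.ExcEmb
import Cfsg.Agent.Mrg.Omega.TwoF.TwE6Odd
import Cfsg.Agent.Mrg.Omega.TwoF.E7Odd
import Cfsg.Agent.S1027
/-!
# `E6(q), E7(q), E8(q), 2E6(q)` (`q` even) and `F4(q)` (`q ≥ 4` even) are big (helper340)

They have a `2`-subgroup without faithful representation of degree at most `248` in odd characteristic.
-/

set_option autoImplicit false
set_option linter.unusedSectionVars false

universe u v

namespace Cfsg.Agent.H340.ExcDeg

open Cfsg Cfsg.Lie Cfsg.Lie.ChevalleyDatum Cfsg.Agent.ChevalleyStructure Cfsg.Agent.ChevalleyStructure.Elts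
  Cfsg.Agent.Omega.TwoF.ChevHeis

section Word

variable {D : ChevalleyDatum} (hD : InList D) {K : Type u} [Field K] [CharP K 2]

/-- `s + r = ρ` with structure constant `± 1`. -/
def pr (D : ChevalleyDatum) (ρ r s : ℕ) : Bool := br D r s ρ 1 || br D r s ρ (-1) || br D s r ρ 1 || br D s r ρ (-1)

/-- all roots of the list are positive, commute with `ρ`, and pairwise commute or have sum `ρ` -/
def hz (D : ChevalleyDatum) (ρ : ℕ) (l : List ℕ) : Bool :=
  Nat.blt ρ D.nroots && decide (D.IsPosRoot ρ) && l.all (fun r => decide (D.IsPosRoot r) && cm D r ρ) &&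
    l.all (fun r => l.all fun s => pr D ρ r s || cm D r s)

theorem neg_eq' (x : K) : -x = x := CharTwo.neg_eq x

include hD in
theorem comm_x {r s : ℕ} (hr : r < D.nroots) (hs : s < D.nroots) (h : cm D r s = true) (t u : K) :
    xG hD r t * xG hD s u = xG hD s u * xG hD r t :=
  congrArg Subtype.val (xK_commute hD hr hs h t u)

theorem br_x {β γ r : ℕ} {m : ℤ} (hm : (m : K) = 1) (h : br D β γ r m = true) (t u : K) :
    xG hD γ u * xG hD β t = xG hD β t * xG hD γ u * xG hD r (t * u) := by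
  have h1 := congrArg Subtype.val (xK_br hD h t u)
  have h2 : -((m : K) * t * u) = t * u := by rw [neg_eq', hm, one_mul]
  rw [h2] at h1
  exact h1

theorem xG_sq (r : ℕ) (t : K) : xG hD r t * xG hD r t = 1 := by
  rw [xG_add, CharTwo.add_self_eq_zero, xG_zero]

structure Data (ρ : ℕ) (l : List ℕ) : Prop where
  rho : ρ < D.nroots
  rhoPos : D.IsPosRoot ρ
  lt : ∀ r ∈ l, r < D.nroots
  pos : ∀ r ∈ l, D.IsPosRoot r
  cmr : ∀ r ∈ l, cm D r ρ = true
  two : ∀ r ∈ l, ∀ s ∈ l, pr D ρ r s = true ∨ cm D r s = true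

theorem data_of_hz {ρ : ℕ} {l : List ℕ} (h : hz D ρ l = true) : Data (D := D) ρ l := by
  simp only [hz, Bool.and_eq_true, Nat.blt_eq, decide_eq_true_eq, List.all_eq_true, Bool.or_eq_true] at h
  obtain ⟨⟨⟨h1, h2⟩, h3⟩, h4⟩ := h
  exact ⟨h1, h2, fun r hr => (h3 r hr).1.1, fun r hr => (h3 r hr).1, fun r hr => (h3 r hr).2,
    fun r hr s hs => h4 r hr s hs⟩

variable {ρ : ℕ} {l : List ℕ} (hl : Data (D := D) ρ l)

include hl in
theorem x_rho {r : ℕ} (hr : r ∈ l) (t u : K) : xG hD r t * xG hD ρ u = xG hD ρ u * xG hD r t :=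
  comm_x hD (hl.lt r hr) hl.rho (hl.cmr r hr) t u

include hl in
/-- the basic relation -/
theorem x_rel {r s : ℕ} (hr : r ∈ l) (hs : s ∈ l) (t u : K) :
    xG hD r t * xG hD s u = xG hD s u * xG hD r t * xG hD ρ (if pr D ρ r s = true then t * u else 0) := by
  by_cases h : pr D ρ r s = true
  · rw [if_pos h]
    have h1 := h
    simp only [pr, Bool.or_eq_true] at h1
    have hm1 : ((1 : ℤ) : K) = 1 := Int.cast_one
    have hm2 : ((-1 : ℤ) : K) = 1 := by rw [Int.cast_neg, Int.cast_one, neg_eq']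
    have key : xG hD s u * xG hD r t = xG hD r t * xG hD s u * xG hD ρ (t * u) →
        xG hD r t * xG hD s u = xG hD s u * xG hD r t * xG hD ρ (t * u) := by
      intro h3
      rw [h3, mul_assoc, xG_sq, mul_one]
    rcases h1 with ((h1 | h1) | h1) | h1
    · exact key (br_x hD hm1 h1 t u)
    · exact key (br_x hD hm2 h1 t u)
    · have := br_x hD hm1 h1 u t
      rwa [mul_comm u t] at this
    · have := br_x hD hm2 h1 u t
      rwa [mul_comm u t] at this
  · rw [if_neg h, xG_zero, mul_one]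
    exact comm_x hD (hl.lt r hr) (hl.lt s hs) ((hl.two r hr s hs).resolve_left h) t u

/-- the pairing of two words -/
def B (D : ChevalleyDatum) (ρ : ℕ) (w v : List (ℕ × K)) : K :=
  (w.map fun p => (v.map fun q => if pr D ρ p.1 q.1 = true then p.2 * q.2 else 0).sum).sum

/-- words in the roots of `l` -/
def In (l : List ℕ) (w : List (ℕ × K)) : Prop := ∀ p ∈ w, p.1 ∈ l

include hl in
theorem word_rho {w : List (ℕ × K)} (hw : In l w) (u : K) : wordG hD w * xG hD ρ u = xG hD ρ u * wordG hD w := by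
  induction w with
  | nil => rw [wordG_nil, one_mul, mul_one]
  | cons p w ih =>
    rw [wordG_cons, mul_assoc, ih (fun q hq => hw q (List.mem_cons_of_mem _ hq)), ← mul_assoc,
      x_rho hD hl (hw p List.mem_cons_self), mul_assoc]

include hl in
theorem x_word {r : ℕ} (hr : r ∈ l) (t : K) {w : List (ℕ × K)} (hw : In l w) :
    xG hD r t * wordG hD w = wordG hD w * xG hD r t *
      xG hD ρ ((w.map fun q => if pr D ρ r q.1 = true then t * q.2 else 0).sum) := by
  induction w with
  | nil => rw [wordG_nil, List.map_nil, List.sum_nil, xG_zero, one_mul, mul_one]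
  | cons p w ih =>
    have hp := hw p List.mem_cons_self
    have hw' : In l w := fun q hq => hw q (List.mem_cons_of_mem _ hq)
    rw [wordG_cons, List.map_cons, List.sum_cons, ← mul_assoc, x_rel hD hl hr hp t p.2,
      mul_assoc (xG hD p.1 p.2 * xG hD r t), ← word_rho hD hl hw', ← mul_assoc, mul_assoc (xG hD p.1 p.2) (xG hD r t),
      ih hw', add_comm, ← xG_add]
    simp only [mul_assoc]

include hl in
theorem word_rel {w v : List (ℕ × K)} (hw : In l w) (hv : In l v) :
    wordG hD w * wordG hD v = wordG hD v * wordG hD w * xG hD ρ (B D ρ w v) := by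
  induction w with
  | nil => rw [wordG_nil, B, List.map_nil, List.sum_nil, xG_zero, one_mul, mul_one, mul_one]
  | cons p w ih =>
    have hp := hw p List.mem_cons_self
    have hw' : In l w := fun q hq => hw q (List.mem_cons_of_mem _ hq)
    rw [wordG_cons, mul_assoc, ih hw', ← mul_assoc, ← mul_assoc, x_word hD hl hp p.2 hv, B, B, List.map_cons,
      List.sum_cons, ← xG_add]
    have e := word_rho hD hl hw' (List.map (fun q => if pr D ρ p.1 q.1 = true then p.2 * q.2 else 0) v).sum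
    simp only [mul_assoc] at e ⊢
    rw [← mul_assoc (wordG hD w), e]
    simp only [mul_assoc]

theorem word_sq {w : List (ℕ × K)} (hw : In l w)
    (h : ∀ p ∈ w, ∀ q ∈ w, p.1 ≠ q.1 → cm D p.1 q.1 = true) (hl : Data (D := D) ρ l) :
    wordG hD w * wordG hD w = 1 := by
  induction w with
  | nil => rw [wordG_nil, mul_one]
  | cons p w ih =>
    have hw' : In l w := fun q hq => hw q (List.mem_cons_of_mem _ hq)
    have hc : xG hD p.1 p.2 * wordG hD w = wordG hD w * xG hD p.1 p.2 := by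
      have key : ∀ v : List (ℕ × K), (∀ q ∈ v, q ∈ p :: w) → xG hD p.1 p.2 * wordG hD v = wordG hD v * xG hD p.1 p.2 := by
        intro v
        induction v with
        | nil => intro _; rw [wordG_nil, mul_one, one_mul]
        | cons q v ih2 =>
          intro hv
          have hq : q ∈ p :: w := hv q List.mem_cons_self
          have e : xG hD p.1 p.2 * xG hD q.1 q.2 = xG hD q.1 q.2 * xG hD p.1 p.2 := by
            by_cases hpq : p.1 = q.1
            · rw [hpq, xG_add, xG_add, add_comm]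
            · exact comm_x hD (hl.lt _ (hw p List.mem_cons_self)) (hl.lt _ (hw q hq)) (h p List.mem_cons_self q hq hpq) _ _
          rw [wordG_cons, ← mul_assoc, e, mul_assoc, ih2 fun x hx => hv x (List.mem_cons_of_mem _ hx), mul_assoc]
      exact key w fun q hq => List.mem_cons_of_mem _ hq
    rw [wordG_cons, mul_assoc, ← mul_assoc (wordG hD w), ← hc, mul_assoc, ← mul_assoc, ← mul_assoc,
      xG_sq, one_mul]
    exact ih hw' fun a ha b hb => h a (List.mem_cons_of_mem _ ha) b (List.mem_cons_of_mem _ hb)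

theorem word_mem_pos {w : List (ℕ × K)} (hl : Data (D := D) ρ l) (hw : In l w) :
    wordG hD w ∈ D.posUnipotent K := by
  induction w with
  | nil => exact one_mem _
  | cons p w ih =>
    rw [wordG_cons]
    exact mul_mem (xG_mem_posUnipotent hD (hl.pos _ (hw p List.mem_cons_self)) _)
      (ih fun q hq => hw q (List.mem_cons_of_mem _ hq))

include hD in
/-- the positive unipotent group is a `2`-group -/
theorem isPGroup_pos [Fintype K] : IsPGroup 2 ↥(D.posUnipotent K) := by
  have : Fact (Nat.Prime 2) := ⟨Nat.prime_two⟩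
  obtain ⟨n, -, hn⟩ := FiniteField.card K 2
  refine IsPGroup.of_card (n := n * (D.nroots / 2)) ?_
  rw [S1027.result D hD, hn, ← pow_mul]

include hD in
/-- **Extraspecial configurations from words.** -/
theorem big_of_words [Fintype K] (hl : Data (D := D) ρ l) (G : Subgroup (GL D.Idx K)) {m : ℕ} (hm : 8 ≤ m)
    (z1 : xG hD ρ (1 : K) ∈ G) (a b : Fin m → List (ℕ × K)) (ha : ∀ i, In l (a i)) (hb : ∀ i, In l (b i))
    (haG : ∀ i, wordG hD (a i) ∈ G) (hbG : ∀ i, wordG hD (b i) ∈ G)
    (hsq : ∀ i, ∀ p ∈ a i, ∀ q ∈ a i, p.1 ≠ q.1 → cm D p.1 q.1 = true)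
    (hBa : ∀ i j, B D ρ (a i) (a j) = 0) (hBab : ∀ i j, B D ρ (a i) (b j) = if i = j then 1 else 0) : Big ↥G := by
  let T : Subgroup (GL D.Idx K) := D.posUnipotent K ⊓ G
  have hT : IsPGroup 2 ↥(T.subgroupOf G) := by
    have h1 : IsPGroup 2 ↥T := (isPGroup_pos (K := K) hD).to_le inf_le_left
    exact h1.comap_of_injective G.subtype Subtype.val_injective
  have hmem : ∀ g : GL D.Idx K, g ∈ D.posUnipotent K → ∀ hg : g ∈ G, (⟨g, hg⟩ : ↥G) ∈ T.subgroupOf G :=
    fun g h1 h2 => ⟨h1, h2⟩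
  have hzp : xG hD ρ (1 : K) ∈ D.posUnipotent K := xG_mem_posUnipotent hD hl.rhoPos 1
  refine Big.of_HC hm (T.subgroupOf G) hT ⟨⟨⟨xG hD ρ 1, z1⟩, hmem _ hzp _⟩,
    fun i => ⟨⟨wordG hD (a i), haG i⟩, hmem _ (word_mem_pos hD hl (ha i)) _⟩,
    fun i => ⟨⟨wordG hD (b i), hbG i⟩, hmem _ (word_mem_pos hD hl (hb i)) _⟩, ?_, ?_, ?_, ?_, ?_, ?_, ?_, ?_⟩
  · intro h
    have h1 : xG hD ρ (1 : K) = 1 := congrArg (fun x : ↥(T.subgroupOf G) => ((x : ↥G) : GL D.Idx K)) h
    exact one_ne_zero ((xG_eq_one_iff hD hl.rho (1 : K)).1 h1)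
  · exact Subtype.ext (Subtype.ext (xG_sq hD ρ 1))
  · intro i
    exact Subtype.ext (Subtype.ext (word_sq hD (ha i) (hsq i) hl))
  · intro i
    exact Subtype.ext (Subtype.ext (word_rho hD hl (ha i) 1))
  · intro i
    exact Subtype.ext (Subtype.ext (word_rho hD hl (hb i) 1))
  · intro i j
    refine Subtype.ext (Subtype.ext ((word_rel hD hl (ha i) (ha j)).trans ?_))
    rw [hBa, xG_zero, mul_one]
    rfl
  · intro i
    refine Subtype.ext (Subtype.ext ((word_rel hD hl (ha i) (hb i)).trans ?_))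
    rw [hBab, if_pos rfl]
    rfl
  · intro i j hij
    refine Subtype.ext (Subtype.ext ((word_rel hD hl (ha i) (hb j)).trans ?_))
    rw [hBab, if_neg hij, xG_zero, mul_one]
    rfl

include hD in
/-- **The case of single root elements with parameter `1`.** -/
theorem big_of_roots [Fintype K] (hl : Data (D := D) ρ l) {m : ℕ} (hm : 8 ≤ m) (a b : Fin m → ℕ)
    (ha : ∀ i, a i ∈ l) (hb : ∀ i, b i ∈ l) (h1 : ∀ i j, pr D ρ (a i) (a j) = false)
    (h2 : ∀ i j, pr D ρ (a i) (b j) = decide (i = j)) : Big ↥(D.group K) := by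
  refine big_of_words hD hl (D.group K) hm (xG_mem_group hD ρ 1) (fun i => [(a i, 1)]) (fun i => [(b i, 1)])
    (fun i p hp => ?_) (fun i p hp => ?_) (fun i => wordG_mem_group hD _) (fun i => wordG_mem_group hD _)
    (fun i p hp q hq hpq => ?_) (fun i j => ?_) (fun i j => ?_)
  · rw [List.mem_singleton] at hp
    rw [hp]
    exact ha i
  · rw [List.mem_singleton] at hp
    rw [hp]
    exact hb i
  · rw [List.mem_singleton] at hp hq
    rw [hp, hq] at hpq
    exact absurd rfl hpq
  · simp [B, h1 i j]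
  · simp [B, h2 i j]

include hD in
/-- **Configurations over the field.** -/
theorem big_of_roots_field [Fintype K] (hK : ∃ ω : K, ω ≠ 0 ∧ ω ≠ 1) (hl : Data (D := D) ρ l) {m : ℕ} (hm : 4 ≤ m)
    (a b : Fin m → ℕ) (ha : ∀ i, a i ∈ l) (hb : ∀ i, b i ∈ l) (h1 : ∀ i j, pr D ρ (a i) (a j) = false)
    (h2 : ∀ i j, pr D ρ (a i) (b j) = decide (i = j)) : Big ↥(D.group K) := by
  let G := D.group K
  let T : Subgroup ↥G := (D.posUnipotent K).subgroupOf G
  have hT : IsPGroup 2 ↥T := (isPGroup_pos (K := K) hD).comap_of_injective G.subtype Subtype.val_injective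
  let X : ∀ r : ℕ, D.IsPosRoot r → K → ↥T := fun r hr t =>
    ⟨⟨xG hD r t, xG_mem_group hD r t⟩, xG_mem_posUnipotent hD hr t⟩
  refine Big.of_FC hK hm T hT ⟨X ρ hl.rhoPos, fun i => X (a i) (hl.pos _ (ha i)), fun i => X (b i) (hl.pos _ (hb i)),
    ⟨1, ?_⟩, ?_, ?_, ?_, ?_, ?_, ?_, ?_⟩
  · intro h
    have h1 : xG hD ρ (1 : K) = 1 := congrArg (fun x : ↥T => ((x : ↥G) : GL D.Idx K)) h
    exact one_ne_zero ((xG_eq_one_iff hD hl.rho (1 : K)).1 h1)
  · intro s t
    exact Subtype.ext (Subtype.ext (xG_add hD ρ s t).symm)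
  · intro i s
    exact Subtype.ext (Subtype.ext (xG_sq hD _ s))
  · intro i s t
    exact Subtype.ext (Subtype.ext (x_rho hD hl (ha i) s t))
  · intro i s t
    exact Subtype.ext (Subtype.ext (x_rho hD hl (hb i) s t))
  · intro i j s t
    refine Subtype.ext (Subtype.ext ((x_rel hD hl (ha i) (ha j) s t).trans ?_))
    rw [h1, if_neg Bool.false_ne_true, xG_zero, mul_one]
    rfl
  · intro i s t
    refine Subtype.ext (Subtype.ext ((x_rel hD hl (ha i) (hb i) s t).trans ?_))
    rw [h2, if_pos (by simp)]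
    rfl
  · intro i j hij s t
    refine Subtype.ext (Subtype.ext ((x_rel hD hl (ha i) (hb j) s t).trans ?_))
    rw [h2, if_neg (by simp [hij]), xG_zero, mul_one]
    rfl

end Word

/-- `F₄(q)`, `q ≥ 4` even -/
theorem big_F4 (F : Type u) [Field F] [Fintype F] [CharP F 2] (hF : ∃ ω : F, ω ≠ 0 ∧ ω ≠ 1) :
    Big ↥(chevF4.group F) := by
  have hD : InList chevF4 := by simp
  let p : Fin 4 → ℕ × ℕ := ![(46, 24), (26, 45), (31, 43), (42, 32)]
  have hl : Data (D := chevF4) 47 [46, 24, 26, 45, 31, 43, 42, 32] := data_of_hz (by decide +kernel)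
  exact big_of_roots_field hD hF hl (m := 4) le_rfl (fun i => (p i).1) (fun i => (p i).2) (by decide) (by decide)
    (by decide +kernel) (by decide +kernel)

/-- `E₆(q)`, `q` even -/
theorem big_E6 (F : Type u) [Field F] [Fintype F] [CharP F 2] : Big ↥(chevE6.group F) := by
  have hD : InList chevE6 := by simp
  let p : Fin 8 → ℕ × ℕ := ![(70, 46), (47, 69), (48, 68), (49, 67), (50, 66), (51, 65), (52, 64), (63, 53)]
  have hl : Data (D := chevE6) 71 [70, 46, 47, 69, 48, 68, 49, 67, 50, 66, 51, 65, 52, 64, 63, 53] :=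
    data_of_hz (by decide +kernel)
  exact big_of_roots hD hl (m := 8) le_rfl (fun i => (p i).1) (fun i => (p i).2) (by decide) (by decide)
    (by decide +kernel) (by decide +kernel)

/-- `E₇(q)`, `q` even -/
theorem big_E7 (F : Type u) [Field F] [Fintype F] [CharP F 2] : Big ↥(chevE7.group F) := by
  have hD : InList chevE7 := by simp
  let p : Fin 8 → ℕ × ℕ := ![(124, 93), (94, 123), (95, 122), (96, 121), (97, 120), (98, 119), (99, 118), (100, 117)]
  have hl : Data (D := chevE7) 125 [124, 93, 94, 123, 95, 122, 96, 121, 97, 120, 98, 119, 99, 118, 100, 117] :=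
    data_of_hz (by decide +kernel)
  exact big_of_roots hD hl (m := 8) le_rfl (fun i => (p i).1) (fun i => (p i).2) (by decide) (by decide)
    (by decide +kernel) (by decide +kernel)

/-- `E₈(q)`, `q` even -/
theorem big_E8 (F : Type u) [Field F] [Fintype F] [CharP F 2] : Big ↥(chevE8.group F) := by
  have hD : InList chevE8 := by simp
  let p : Fin 8 → ℕ × ℕ := ![(238, 120), (122, 237), (125, 236), (129, 235), (134, 234), (140, 233), (146, 232),
    (151, 231)]
  have hl : Data (D := chevE8) 239 [238, 120, 122, 237, 125, 236, 129, 235, 134, 234, 140, 233, 146, 232, 151, 231] :=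
    data_of_hz (by decide +kernel)
  exact big_of_roots hD hl (m := 8) le_rfl (fun i => (p i).1) (fun i => (p i).2) (by decide) (by decide)
    (by decide +kernel) (by decide +kernel)

section TwE6

open Cfsg.Agent.ChevalleyStructure.TwE6Basic (sg fix n exists_frob hE6)
open Cfsg.Agent.ChevalleyStructure.TwistedE6Sigma (rho eps rho_lt rho_rho eps_rho eps_sq eps_of_rho_eq)
open Cfsg.Agent.Nodes.RGDFold (V R_le wp_lt)
open Cfsg.Agent.Nodes.RGDTwE6 (J isCartan foldData foldGrp hp)

variable {K : Type u} [Field K] [Fintype K] [CharP K 2] {q : ℕ} {φ : K →+* K}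

theorem key_mem (hφ : ∀ x, φ x = x ^ q) (hqq : ∀ t : K, (t ^ q) ^ q = t) (k : ℕ) (hk : k < 72)
    (g : GL chevE6.Idx K) (h1 : g ∈ TwistedU.rspan (xG (F := K) hE6) {l | l < chevE6.nroots ∧
      V chevE6 J l = V chevE6 J k}) (h2 : sg φ g = g) : g ∈ twistedE6 K q := by
  have : Fact (Nat.Prime 2) := ⟨Nat.prime_two⟩
  have hroot : Cfsg.Agent.Tits.Roots.IsRoot CoxeterMatrix.F₄.toCoxeterSystem isCartan (V chevE6 J k) :=
    (foldData.isRoot_iff hp.checked (fun i r hr => wp_lt hp (J i) hr) _).2 ⟨k, hk, rfl⟩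
  exact R_le CoxeterMatrix.F₄.toCoxeterSystem isCartan foldData (foldGrp hφ hqq) 2 hroot ⟨h1, h2⟩

theorem x_span (k : ℕ) (l : ℕ) (hl : l < 72) (e : V chevE6 J l = V chevE6 J k) (u : K) : xG hE6 l u ∈
    TwistedU.rspan (xG (F := K) hE6) {l | l < chevE6.nroots ∧ V chevE6 J l = V chevE6 J k} :=
  TwistedU.mem_rspan (xG (F := K) hE6) (r := l)
    (S := {l | l < chevE6.nroots ∧ V chevE6 J l = V chevE6 J k}) ⟨hl, e⟩ u

theorem int_unit {e : ℤ} (he : e * e = 1) : (e : K) = 1 := by
  have h : e = 1 ∨ e = -1 := by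
    have h1 : IsUnit e := ⟨⟨e, e, he, he⟩, rfl⟩
    exact Int.isUnit_iff.1 h1
  rcases h with h | h
  · rw [h, Int.cast_one]
  · rw [h, Int.cast_neg, Int.cast_one, CharTwo.neg_eq]

theorem sg_x {r : ℕ} (hr : r < 72) (u : K) : sg φ (xG hE6 r u) = xG hE6 (rho r) (φ u) := by
  have h1 : sg φ (xG hE6 r u) = xG hE6 (rho r) (((eps r : ℤ) : K) * φ u) := by
    apply Units.ext
    rw [coe_xG]
    exact TwistedE6Sigma.sig_xE6 φ (g := xG hE6 r u) hr (coe_xG _ _ _)
  rw [h1, int_unit (eps_sq r hr), one_mul]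

theorem single_mem (hφ : ∀ x, φ x = x ^ q) (hqq : ∀ t : K, (t ^ q) ^ q = t) {k : ℕ} (hk : k < 72)
    (hr : rho k = k) {t : K} (ht : t ^ q = t) : wordG hE6 [(k, t)] ∈ twistedE6 K q := by
  rw [wordG_cons, wordG_nil, mul_one]
  refine key_mem hφ hqq k hk _ (x_span k k hk rfl t) ?_
  rw [sg_x hk, hr, hφ, ht]

theorem pair_mem (hφ : ∀ x, φ x = x ^ q) (hqq : ∀ t : K, (t ^ q) ^ q = t) {k k' : ℕ} (hk : k < 72)
    (hr : rho k = k') (hc : cm chevE6 k' k = true) (t t' : K) (ht : t ^ q = t') :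
    wordG hE6 [(k, t), (k', t')] ∈ twistedE6 K q := by
  subst hr ht
  rw [wordG_cons, wordG_cons, wordG_nil, mul_one]
  refine key_mem hφ hqq k hk _ (mul_mem (x_span k k hk rfl t)
    (x_span k _ (rho_lt k hk) (Cfsg.Agent.Omega.TwoF.TwE6Odd.hV k hk) _)) ?_
  rw [map_mul, sg_x hk, sg_x (rho_lt k hk), rho_rho k hk, hφ, hφ, hqq]
  exact comm_x hE6 (rho_lt k hk) hk hc _ _

theorem exists_trace (hq : IsPrimePow q) (hK : Fintype.card K = q ^ 2) : ∃ c : K, c + c ^ q = 1 := by
  obtain ⟨φ, hφ, hqq⟩ := exists_frob hq hK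
  obtain ⟨d, hd⟩ : ∃ d : K, d ^ q ≠ d := by
    by_contra hcon
    push Not at hcon
    have h1 := Cfsg.Agent.Omega.TwoF.TwE6Odd.card_fixed (K := K) (q := q) (k := 2) hq.two_le
      (by rw [Nat.card_eq_fintype_card, hK])
    have h2 : Nat.card {x : K // x ^ q = x} = Nat.card K := Nat.card_congr (Equiv.subtypeUnivEquiv hcon)
    rw [h2, Nat.card_eq_fintype_card, hK] at h1
    have := hq.two_le
    nlinarith
  have he : d + d ^ q ≠ 0 := fun h => hd (by
    have h3 : d ^ q = -d := by linear_combination h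
    rw [h3, CharTwo.neg_eq])
  have hadd : ∀ x y : K, (x + y) ^ q = x ^ q + y ^ q := fun x y => by rw [← hφ, map_add, hφ, hφ]
  refine ⟨d / (d + d ^ q), ?_⟩
  rw [div_pow, hadd, hqq, add_comm (d ^ q) d, ← add_div, div_self he]

set_option maxHeartbeats 4000000 in
/-- `²E₆(q)`, `q` even -/
theorem big_2E6 (hq : IsPrimePow q) (hK : Fintype.card K = q ^ 2) : Big ↥(twistedE6 K q) := by
  obtain ⟨φ, hφ, hqq⟩ := exists_frob hq hK
  obtain ⟨c, hc⟩ := exists_trace hq hK
  have hl : Data (D := chevE6) 71 [47, 69, 51, 65, 63, 53, 70, 46, 48, 50, 68, 66, 49, 61, 67, 55] :=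
    data_of_hz (by decide +kernel)
  let a : Fin 8 → List (ℕ × K) := ![[(47, 1)], [(51, 1)], [(63, 1)], [(70, 1)], [(48, 1), (50, 1)],
    [(48, c), (50, c ^ q)], [(49, 1), (61, 1)], [(49, c), (61, c ^ q)]]
  let b : Fin 8 → List (ℕ × K) := ![[(69, 1)], [(65, 1)], [(53, 1)], [(46, 1)], [(68, c ^ q), (66, c)],
    [(68, 1), (66, 1)], [(67, c ^ q), (55, c)], [(67, 1), (55, 1)]]
  have one : (1 : K) ^ q = 1 := one_pow q
  have hIn : ∀ (w : List (ℕ × K)), (w.map Prod.fst) ⊆ [47, 69, 51, 65, 63, 53, 70, 46, 48, 50, 68, 66, 49, 61, 67, 55] →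
      In [47, 69, 51, 65, 63, 53, 70, 46, 48, 50, 68, 66, 49, 61, 67, 55] w :=
    fun w hw p hp => hw (List.mem_map.2 ⟨p, hp, rfl⟩)
  have hcc : c ^ q + c = 1 := by rw [add_comm, hc]
  have h2 : (1 : K) + 1 = 0 := CharTwo.add_self_eq_zero 1
  have h3 : c * c ^ q + c ^ q * c = 0 := by rw [mul_comm (c ^ q) c, CharTwo.add_self_eq_zero]
  refine big_of_words hE6 hl (twistedE6 K q) (m := 8) le_rfl ?_ a b ?_ ?_ ?_ ?_ ?_ ?_ ?_
  · have := single_mem hφ hqq (k := 71) (by norm_num) (by decide) one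
    rwa [wordG_cons, wordG_nil, mul_one] at this
  · intro i
    apply hIn
    fin_cases i <;> simp [a]
  · intro i
    apply hIn
    fin_cases i <;> simp [b]
  · intro i
    fin_cases i
    · exact single_mem hφ hqq (by norm_num) (by decide) one
    · exact single_mem hφ hqq (by norm_num) (by decide) one
    · exact single_mem hφ hqq (by norm_num) (by decide) one
    · exact single_mem hφ hqq (by norm_num) (by decide) one
    · exact pair_mem hφ hqq (by norm_num) (by decide) (by decide +kernel) _ _ one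
    · exact pair_mem hφ hqq (by norm_num) (by decide) (by decide +kernel) _ _ rfl
    · exact pair_mem hφ hqq (by norm_num) (by decide) (by decide +kernel) _ _ one
    · exact pair_mem hφ hqq (by norm_num) (by decide) (by decide +kernel) _ _ rfl
  · intro i
    fin_cases i
    · exact single_mem hφ hqq (by norm_num) (by decide) one
    · exact single_mem hφ hqq (by norm_num) (by decide) one
    · exact single_mem hφ hqq (by norm_num) (by decide) one
    · exact single_mem hφ hqq (by norm_num) (by decide) one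
    · exact pair_mem hφ hqq (by norm_num) (by decide) (by decide +kernel) _ _ (hqq c)
    · exact pair_mem hφ hqq (by norm_num) (by decide) (by decide +kernel) _ _ one
    · exact pair_mem hφ hqq (by norm_num) (by decide) (by decide +kernel) _ _ (hqq c)
    · exact pair_mem hφ hqq (by norm_num) (by decide) (by decide +kernel) _ _ one
  · have h50 : cm chevE6 48 50 = true ∧ cm chevE6 50 48 = true ∧ cm chevE6 49 61 = true ∧ cm chevE6 61 49 = true := by
      decide +kernel
    intro i
    fin_cases i <;> simp [a, h50]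
  · have tab : ∀ r ∈ [47, 51, 63, 70, 48, 50, 49, 61], ∀ s ∈ [47, 51, 63, 70, 48, 50, 49, 61],
        pr chevE6 71 r s = false := by decide +kernel
    intro i j
    fin_cases i <;> fin_cases j <;> simp [a, B, tab]
  · have tab : ∀ r ∈ [47, 51, 63, 70, 48, 50, 49, 61], ∀ s ∈ [69, 65, 53, 46, 68, 66, 67, 55],
        pr chevE6 71 r s = decide ((r, s) ∈ [(47, 69), (51, 65), (63, 53), (70, 46), (48, 68), (50, 66), (49, 67),
          (61, 55)]) := by decide +kernel
    intro i j
    fin_cases i <;> fin_cases j <;> simp [a, b, B, tab, hc, hcc, h2, h3]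


end TwE6

end Cfsg.Agent.H340.ExcDeg
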