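import Cfsg.Agent.H340.ExcMain
/-!
# Standard subgroups of type `E₆, E₇, E₈, ²E₆, F₄` in characteristic two: the answers (helper340)
-/

set_option autoImplicit false

universe u v w

namespace Cfsg.Agent.H340.ExcFin

open Subgroup Cfsg Cfsg.Lie Cfsg.Agent.OrdDiv Cfsg.Agent.H340.ExcId Cfsg.Agent.H340.ExcTab

/-- a finite field of even order, in `Type` -/
theorem exists_field {F : Type u} [Field F] [Fintype F] {n : ℕ} (hn : n ≠ 0) (hF : Fintype.card F = 2 ^ n) :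
    ∃ (K : Type) (_ : Field K) (_ : Fintype K), Fintype.card K = 2 ^ n ∧ Nonempty (F ≃+* K) := by
  have : Fact (Nat.Prime 2) := ⟨Nat.prime_two⟩
  let _ : Fintype (GaloisField 2 n) := Fintype.ofFinite _
  have h : Fintype.card (GaloisField 2 n) = 2 ^ n := by
    rw [← Nat.card_eq_fintype_card, GaloisField.card 2 n hn]
  exact ⟨GaloisField 2 n, inferInstance, inferInstance, h, ⟨FiniteField.ringEquivOfCardEq (hF.trans h.symm)⟩⟩

variable {S : Type w} [Group S] {n : ℕ}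

theorem is_e6 (hn : 1 ≤ n) {F : Type u} [Field F] [Fintype F] (hF : Fintype.card F = 2 ^ n)
    (h : Nonempty (S ≃* ↥(chevE6.group F))) : Is .E6 n S := by
  obtain ⟨K, _, _, hK, ⟨σ⟩⟩ := exists_field (by omega) hF
  obtain ⟨e⟩ := h
  obtain ⟨f⟩ := Cfsg.Agent.H902.Iso.chev_congr σ chevE6
  exact ⟨K, inferInstance, inferInstance, hK, ⟨e.trans f⟩⟩

theorem is_e7 (hn : 1 ≤ n) {F : Type u} [Field F] [Fintype F] (hF : Fintype.card F = 2 ^ n)
    (h : Nonempty (S ≃* ↥(chevE7.group F))) : Is .E7 n S := by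
  obtain ⟨K, _, _, hK, ⟨σ⟩⟩ := exists_field (by omega) hF
  obtain ⟨e⟩ := h
  obtain ⟨f⟩ := Cfsg.Agent.H902.Iso.chev_congr σ chevE7
  exact ⟨K, inferInstance, inferInstance, hK, ⟨e.trans f⟩⟩

theorem is_e8 (hn : 1 ≤ n) {F : Type u} [Field F] [Fintype F] (hF : Fintype.card F = 2 ^ n)
    (h : Nonempty (S ≃* ↥(chevE8.group F))) : Is .E8 n S := by
  obtain ⟨K, _, _, hK, ⟨σ⟩⟩ := exists_field (by omega) hF
  obtain ⟨e⟩ := h
  obtain ⟨f⟩ := Cfsg.Agent.H902.Iso.chev_congr σ chevE8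
  exact ⟨K, inferInstance, inferInstance, hK, ⟨e.trans f⟩⟩

theorem is_f4 (hn : 1 ≤ n) {F : Type u} [Field F] [Fintype F] (hF : Fintype.card F = 2 ^ n)
    (h : Nonempty (S ≃* ↥(chevF4.group F))) : Is .F4 n S := by
  obtain ⟨K, _, _, hK, ⟨σ⟩⟩ := exists_field (by omega) hF
  obtain ⟨e⟩ := h
  obtain ⟨f⟩ := Cfsg.Agent.H902.Iso.chev_congr σ chevF4
  exact ⟨K, inferInstance, inferInstance, hK, ⟨e.trans f⟩⟩

theorem is_te6 (hn : 1 ≤ n) {F : Type u} [Field F] [Fintype F] (hF : Fintype.card F = (2 ^ n) ^ 2)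
    (h : Nonempty (S ≃* ↥(twistedE6 F (2 ^ n)))) : Is .TE6 n S := by
  obtain ⟨K, _, _, hK, ⟨σ⟩⟩ := exists_field (F := F) (n := n * 2) (by omega) (by rw [hF, pow_mul])
  obtain ⟨e⟩ := h
  obtain ⟨f⟩ : Nonempty (↥(twistedE6 F (2 ^ n)) ≃* ↥(twistedE6 K (2 ^ n))) :=
    Cfsg.Agent.H902.Iso.gen_congr σ chevE6 (Cfsg.Agent.H902.Iso.e6Words_map σ (2 ^ n))
  exact ⟨K, inferInstance, inferInstance, by rw [hK, pow_mul], ⟨e.trans f⟩⟩

/-! ### the answers -/

theorem out_sq {D : ChevalleyDatum}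
    (h : ∃ (F : Type) (_ : Field F) (_ : Fintype F), Fintype.card F = 2 ^ (2 * n) ∧ Nonempty (S ≃* ↥(D.group F))) :
    ∃ (K : Type) (_ : Field K) (_ : Fintype K), Fintype.card K = (2 ^ n) ^ 2 ∧ Nonempty (S ≃* ↥(D.group K)) := by
  obtain ⟨K, _, _, hK, h⟩ := h
  exact ⟨K, inferInstance, inferInstance, by rw [hK, mul_comm, pow_mul], h⟩

variable {G : Type u} [Group G] [Finite G]

/-- **Types `E₆, E₇, E₈`** (S3326 from the classification) -/
theorem e_type (hk : IsKnownSimple' ↥(generalizedFittingSubgroup G))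
    (hF : IsSimpleGroup ↥(generalizedFittingSubgroup G)) (hF' : ¬ IsMulCommutative ↥(generalizedFittingSubgroup G))
    {L : Subgroup G} (hL : IsStandardSubgroup L) (hn : 1 ≤ n) {D : ChevalleyDatum}
    (hD : D = chevE6 ∨ D = chevE7 ∨ D = chevE8) {F : Type v} [Field F] [Fintype F]
    (hFq : Fintype.card F = 2 ^ n) (hLX : Nonempty ((↥L ⧸ oddCore ↥L) ≃* ↥(D.group F))) :
    ∃ (K : Type) (_ : Field K) (_ : Fintype K), Fintype.card K = (2 ^ n) ^ 2 ∧
      Nonempty (↥(generalizedFittingSubgroup G) ≃* ↥(D.group K)) := by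
  rcases hD with rfl | rfl | rfl
  · obtain ⟨_, t, -, -, -, -, h⟩ := ExcStd.exists_hyp hF hF' hL hn (is_e6 hn hFq hLX)
    rcases main hF' hk h with h1 | ⟨-, -, h1 | h1⟩
    · exact out_sq h1
    · cases h1
    · cases h1
  · obtain ⟨_, t, -, -, -, -, h⟩ := ExcStd.exists_hyp hF hF' hL hn (is_e7 hn hFq hLX)
    rcases main hF' hk h with h1 | ⟨-, -, h1 | h1⟩
    · exact out_sq h1
    · cases h1
    · cases h1
  · obtain ⟨_, t, -, -, -, -, h⟩ := ExcStd.exists_hyp hF hF' hL hn (is_e8 hn hFq hLX)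
    rcases main hF' hk h with h1 | ⟨-, -, h1 | h1⟩
    · exact out_sq h1
    · cases h1
    · cases h1

end Cfsg.Agent.H340.ExcFin
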