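import Cfsg.Agent.H340.ExcDeg
import Cfsg.Agent.H340.F4Two
import Cfsg.Agent.H902.Names
import Cfsg.Agent.H902.Cross
import Cfsg.Agent.H902.AltLie
import Cfsg.Agent.H902.SameD
import Cfsg.Agent.H902.Iso
import Cfsg.Agent.S1054
import Cfsg.Agent.S1062
import Cfsg.Agent.S1063
import Cfsg.Agent.S1064
import Cfsg.Agent.S1065
import Cfsg.Agent.S1066
import Cfsg.Agent.S1070
/-!
# The five types `E₆, E₇, E₈, ²E₆, F₄` in characteristic two: identification by order (helper340)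

* `Is τ n S` : `S` is the group of type `τ` over the field with `2 ^ n` elements;
* `Is.real` : its order has the shape `sh τ`; `Is.inj` : the type and `n` are determined; `Is.lt` : `2 ^ 24 ≤ |S|`;
* `Is.not_hasRep` : central extensions by groups of odd order have no faithful representation of degree `≤ 248` in odd
  characteristic.
-/

set_option autoImplicit false

universe u v w

namespace Cfsg.Agent.H340.ExcId

open Cfsg Cfsg.Lie Cfsg.Agent.OrdDiv Cfsg.Agent.H902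

/-- the types -/
inductive Ty
  | E6 | E7 | E8 | TE6 | F4
  deriving DecidableEq

/-- the names -/
def nm : Ty → ℕ → Grp
  | .E6, q => .e6 q
  | .E7, q => .e7 q
  | .E8, q => .e8 q
  | .TE6, q => .te6 q
  | .F4, q => .f4 q

/-- the shapes of the orders -/
def sh : Ty → Art.Sh
  | .E6 => .E6
  | .E7 => .E7
  | .E8 => .E8
  | .TE6 => .TE6
  | .F4 => .F4

theorem sh_inj {τ τ' : Ty} (h : sh τ = sh τ') : τ = τ' := by
  cases τ <;> cases τ' <;> first | rfl | exact absurd h (by decide)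

/-- `S` is the group of type `τ` over the field with `2 ^ n` elements. -/
def Is (τ : Ty) (n : ℕ) (S : Type u) [Group S] : Prop := OrdDiv.Real (nm τ (2 ^ n)) S

theorem Is.congr {τ : Ty} {n : ℕ} {S : Type u} {S' : Type v} [Group S] [Group S'] (e : S ≃* S') (h : Is τ n S) :
    Is τ n S' := by
  cases τ <;> obtain ⟨F, i1, i2, hF, ⟨f⟩⟩ := h <;> exact ⟨F, i1, i2, hF, ⟨e.symm.trans f⟩⟩

theorem charTwo {F : Type u} [Field F] [Fintype F] {n : ℕ} (hF : Fintype.card F = 2 ^ n) : CharP F 2 := by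
  obtain ⟨p, hp⟩ := CharP.exists F
  obtain ⟨m, hpp, hcard⟩ := FiniteField.card F p
  have h1 : p ∣ 2 ^ n := by
    rw [← hF, hcard]
    exact dvd_pow_self p m.ne_zero
  rwa [(Nat.prime_dvd_prime_iff_eq hpp Nat.prime_two).1 (hpp.dvd_of_dvd_pow h1)] at hp

theorem isPP {n : ℕ} (hn : 1 ≤ n) : IsPrimePow (2 ^ n) := Nat.prime_two.isPrimePow.pow (by omega)

/-- the order -/
theorem Is.real {τ : Ty} {n : ℕ} (hn : 1 ≤ n) {S : Type u} [Group S] (h : Is τ n S) :
    Art.Real (sh τ) 2 n (Nat.card S) := by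
  cases τ
  · obtain ⟨F, _, _, hF, ⟨e⟩⟩ := h
    refine ⟨Nat.prime_two, hn, trivial, ?_⟩
    rw [Nat.card_congr e.toEquiv]
    have h1 := S1063.result (F := F) hF
    change Nat.gcd 3 (2 ^ n - 1) * _ = (2 ^ n) ^ 36 * (_ * _ * _ * _ * _ * _)
    rw [h1]
    ring
  · obtain ⟨F, _, _, hF, ⟨e⟩⟩ := h
    refine ⟨Nat.prime_two, hn, trivial, ?_⟩
    rw [Nat.card_congr e.toEquiv]
    have h1 := S1064.result (F := F) hF
    change Nat.gcd 2 (2 ^ n - 1) * _ = (2 ^ n) ^ 63 * (_ * _ * _ * _ * _ * _ * _)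
    rw [h1]
    ring
  · obtain ⟨F, _, _, hF, ⟨e⟩⟩ := h
    refine ⟨Nat.prime_two, hn, trivial, ?_⟩
    rw [Nat.card_congr e.toEquiv]
    have h1 := S1065.result (F := F) hF
    change 1 * _ = (2 ^ n) ^ 120 * (_ * _ * _ * _ * _ * _ * _ * _)
    rw [h1]
    ring
  · obtain ⟨F, _, _, hF, ⟨e⟩⟩ := h
    refine ⟨Nat.prime_two, hn, trivial, ?_⟩
    rw [Nat.card_congr e.toEquiv]
    have h1 := S1066.result (isPP hn) hF
    change Nat.gcd 3 (2 ^ n + 1) * _ = (2 ^ n) ^ 36 * (_ * _ * _ * _ * _ * _)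
    rw [h1]
    ring
  · obtain ⟨F, _, _, hF, ⟨e⟩⟩ := h
    refine ⟨Nat.prime_two, hn, trivial, ?_⟩
    rw [Nat.card_congr e.toEquiv]
    have h1 := S1062.result (F := F) hF
    change 1 * _ = (2 ^ n) ^ 24 * (_ * _ * _ * _)
    rw [h1]
    ring

theorem two_pow_dvd {τ : Ty} {n M : ℕ} (h : Art.Real (sh τ) 2 n M) : 2 ^ 24 ∣ M := by
  have h1 := h.P_self
  have h2 : Art.P 2 M ∣ M := Nat.ordProj_dvd M 2
  rw [h1] at h2
  refine (?_ : 2 ^ 24 ∣ _).trans h2
  rw [← pow_mul]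
  apply Nat.pow_dvd_pow
  have h3 : 24 ≤ Art.NN (sh τ) := by cases τ <;> decide
  have h4 := h.hf
  nlinarith

theorem pos {τ : Ty} {n M : ℕ} (h : Art.Real (sh τ) 2 n M) : 2 ^ 24 ≤ M :=
  Nat.le_of_dvd (Nat.pos_of_ne_zero h.M_ne) (two_pow_dvd h)

/-- the type and the field are determined by the order -/
theorem real_inj {τ : Ty} {n M : ℕ} (h : Art.Real (sh τ) 2 n M) {X : Art.Sh} {f : ℕ} (h' : Art.Real X 2 f M) :
    sh τ = X ∧ n = f := by
  rcases Art.same_char h h' with h1 | h1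
  · exact h1
  · have := pos h
    rw [h1] at this
    norm_num at this

theorem Is.inj {τ τ' : Ty} {n n' : ℕ} (hn : 1 ≤ n) (hn' : 1 ≤ n') {S : Type u} [Group S] {S' : Type v} [Group S']
    (h : Is τ n S) (h' : Is τ' n' S') (e : S ≃* S') : τ = τ' ∧ n = n' := by
  have h1 := h.real hn
  have h2 := h'.real hn'
  rw [← Nat.card_congr e.toEquiv] at h2
  obtain ⟨h3, h4⟩ := real_inj h1 h2
  exact ⟨sh_inj h3, h4⟩

theorem Is.lieTwo {τ : Ty} {n : ℕ} (hn : 1 ≤ n) {S : Type u} [Group S] (h : Is τ n S) : IsLieTypeChar 2 S := by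
  have key : ∀ (F : Type) [Field F] [Fintype F], CharP F 2 →
      ((3 ≤ Fintype.card F ∧ Nonempty (S ≃* Lie.chevG2.group F)) ∨ Nonempty (S ≃* Lie.chevF4.group F) ∨
      Nonempty (S ≃* Lie.chevE6.group F) ∨ Nonempty (S ≃* Lie.chevE7.group F) ∨ Nonempty (S ≃* Lie.chevE8.group F)) →
      IsLieTypeChar 2 S := fun F _ _ h1 h2 =>
    Or.inr (Or.inr (Or.inr (Or.inr (Or.inr (Or.inr (Or.inl ⟨F, inferInstance, inferInstance, h1, h2⟩))))))
  cases τ
  · obtain ⟨F, _, _, hF, e⟩ := h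
    exact key F (charTwo hF) (Or.inr (Or.inr (Or.inl e)))
  · obtain ⟨F, _, _, hF, e⟩ := h
    exact key F (charTwo hF) (Or.inr (Or.inr (Or.inr (Or.inl e))))
  · obtain ⟨F, _, _, hF, e⟩ := h
    exact key F (charTwo hF) (Or.inr (Or.inr (Or.inr (Or.inr e))))
  · obtain ⟨F, _, _, hF, e⟩ := h
    have hc : CharP F 2 := charTwo (n := n * 2) (by rw [hF, pow_mul])
    exact Or.inr (Or.inr (Or.inr (Or.inr (Or.inr (Or.inr (Or.inr (Or.inl ⟨F, inferInstance, inferInstance, hc, 2 ^ n,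
      isPP hn, Or.inl ⟨hF, e⟩⟩)))))))
  · obtain ⟨F, _, _, hF, e⟩ := h
    exact key F (charTwo hF) (Or.inr (Or.inl e))

theorem Is.simple {τ : Ty} {n : ℕ} (hn : 1 ≤ n) {S : Type u} [Group S] (h : Is τ n S) :
    IsSimpleGroup S ∧ ¬ IsMulCommutative S := by
  have key : ∀ (T : Type) [Group T], IsSimpleGroup T ∧ ¬ IsMulCommutative T → Nonempty (S ≃* T) →
      IsSimpleGroup S ∧ ¬ IsMulCommutative S := by
    intro T _ ⟨h1, h2⟩ ⟨e⟩
    refine ⟨e.isSimpleGroup, fun hc => h2 ⟨⟨fun a b => ?_⟩⟩⟩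
    have h3 := hc.is_comm.comm (e.symm a) (e.symm b)
    rw [← map_mul, ← map_mul] at h3
    exact e.symm.injective h3
  cases τ
  · obtain ⟨F, _, _, hF, e⟩ := h
    exact key _ (S1054.result (F := F) chevE6 (by simp)) e
  · obtain ⟨F, _, _, hF, e⟩ := h
    exact key _ (S1054.result (F := F) chevE7 (by simp)) e
  · obtain ⟨F, _, _, hF, e⟩ := h
    exact key _ (S1054.result (F := F) chevE8 (by simp)) e
  · obtain ⟨F, _, _, hF, e⟩ := h
    exact key _ (S1070.result (isPP hn) hF) e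
  · obtain ⟨F, _, _, hF, e⟩ := h
    exact key _ (S1054.result (F := F) chevF4 (by simp)) e

/-- **Degrees.** -/
theorem Is.not_hasRep {τ : Ty} {n : ℕ} (hn : 1 ≤ n) {S : Type u} [Group S] (h : Is τ n S) {L : Type v} [Group L]
    [Finite L] (π : L →* S) (hπ : Function.Surjective π) (hc : π.ker ≤ Subgroup.center L)
    (ho : Odd (Nat.card π.ker)) : ¬ HasRep 248 L := by
  have key : ∀ (T : Type) [Group T], Big T → Nonempty (S ≃* T) → ¬ HasRep 248 L := by
    intro T _ hT ⟨e⟩ hL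
    obtain ⟨U, hU, h1⟩ := hT.congr e.symm
    obtain ⟨f, hf⟩ := Deg.exists_lift π hπ ho U hU
    exact h1 (hL.comp f hf)
  cases τ
  · obtain ⟨F, _, _, hF, e⟩ := h
    have := charTwo hF
    exact key _ (ExcDeg.big_E6 F) e
  · obtain ⟨F, _, _, hF, e⟩ := h
    have := charTwo hF
    exact key _ (ExcDeg.big_E7 F) e
  · obtain ⟨F, _, _, hF, e⟩ := h
    have := charTwo hF
    exact key _ (ExcDeg.big_E8 F) e
  · obtain ⟨F, _, _, hF, e⟩ := h
    have := charTwo (n := n * 2) (by rw [hF, pow_mul])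
    exact key _ (ExcDeg.big_2E6 (isPP hn) hF) e
  · obtain ⟨F, _, _, hF, ⟨e⟩⟩ := h
    have := charTwo hF
    have hk : (e.toMonoidHom.comp π).ker = π.ker := by
      ext x
      rw [MonoidHom.mem_ker, MonoidHom.mem_ker]
      exact ⟨fun h => e.injective (by rw [map_one]; exact h), fun h => by
        change e (π x) = 1
        rw [h, map_one]⟩
    refine F4Two.not_hasRep (F := F) (e.toMonoidHom.comp π) (e.surjective.comp hπ) ?_ ?_
    · rw [hk]; exact hc
    · rw [hk]; exact ho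

end Cfsg.Agent.H340.ExcId
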