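import Cfsg.Agent.H340.ExcTab
import Cfsg.Agent.H284.FStd
/-!
# Standard subgroups of type `E₆, E₇, E₈, ²E₆, F₄`: reduction to the component table (helper340)
-/

set_option autoImplicit false

universe u v w

namespace Cfsg.Agent.H340.ExcStd

open Subgroup Cfsg Cfsg.Lie Cfsg.Agent.H340.ExcId Cfsg.Agent.H340.ExcTab Cfsg.Agent.H284.FStd

/-- a quasisimple group with `L / O(L)` simple nonabelian: `O(L) = Z(L)` -/
theorem oddCore_eq_center {L : Type u} [Group L] [Finite L] (hL : IsQuasisimple L)
    (hs : IsSimpleGroup (L ⧸ oddCore L)) (hna : ¬ IsMulCommutative (L ⧸ oddCore L)) : oddCore L = center L := by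
  have hn : (oddCore L).Normal := Lib.Cores.pPrimeCore_normal 2
  have hq := hL.2
  have h1 : oddCore L ≤ center L := by
    rcases hq.eq_bot_or_eq_top_of_normal ((oddCore L).map (QuotientGroup.mk' (center L)))
      (hn.map _ (QuotientGroup.mk'_surjective _)) with h | h
    · rw [Subgroup.map_eq_bot_iff, QuotientGroup.ker_mk'] at h
      exact h
    · exfalso
      apply hna
      refine ⟨⟨fun a b => ?_⟩⟩
      obtain ⟨a, rfl⟩ := QuotientGroup.mk'_surjective (oddCore L) a
      obtain ⟨b, rfl⟩ := QuotientGroup.mk'_surjective (oddCore L) b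
      have ha : QuotientGroup.mk' (center L) a ∈ (oddCore L).map (QuotientGroup.mk' (center L)) := by
        rw [h]; exact mem_top _
      obtain ⟨a', ha', he⟩ := ha
      have hz : a'⁻¹ * a ∈ center L := QuotientGroup.eq.1 he
      have h2 : QuotientGroup.mk' (oddCore L) a = QuotientGroup.mk' (oddCore L) (a'⁻¹ * a) := by
        rw [map_mul, map_inv]
        have h3 : QuotientGroup.mk' (oddCore L) a' = 1 := (QuotientGroup.eq_one_iff a').2 ha'
        rw [h3, inv_one, one_mul]
      rw [h2, ← map_mul, ← map_mul, mem_center_iff.1 hz b]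
  refine le_antisymm h1 ?_
  have h2 : (center L).map (QuotientGroup.mk' (oddCore L)) ≤ center (L ⧸ oddCore L) := by
    rintro _ ⟨z, hz, rfl⟩
    rw [mem_center_iff]
    intro g
    obtain ⟨g, rfl⟩ := QuotientGroup.mk'_surjective (oddCore L) g
    rw [← map_mul, ← map_mul, mem_center_iff.1 hz g]
  have h3 : center (L ⧸ oddCore L) = ⊥ := by
    rcases hs.eq_bot_or_eq_top_of_normal (center (L ⧸ oddCore L)) inferInstance with h | h
    · exact h
    · exfalso
      apply hna
      refine ⟨⟨fun a b => ?_⟩⟩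
      have hb : b ∈ center (L ⧸ oddCore L) := by rw [h]; exact mem_top _
      exact mem_center_iff.1 hb a
  rw [h3, le_bot_iff, Subgroup.map_eq_bot_iff, QuotientGroup.ker_mk'] at h2
  exact h2

/-- transport of the central quotient -/
theorem quo_iso {A : Type u} {L : Type v} [Group A] [Group L] (e : A ≃* L) {N : Subgroup L} [N.Normal]
    (hN : N = center L) : Nonempty ((A ⧸ center A) ≃* (L ⧸ N)) := by
  subst hN
  refine ⟨QuotientGroup.congr (center A) (center L) e ?_⟩
  ext y
  constructor
  · rintro ⟨z, hz, rfl⟩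
    rw [mem_center_iff]
    intro g
    have h := mem_center_iff.1 hz (e.symm g)
    have h2 := congrArg e h
    rw [map_mul, map_mul, e.apply_symm_apply] at h2
    exact h2
  · intro hy
    refine ⟨e.symm y, ?_, e.apply_symm_apply y⟩
    rw [SetLike.mem_coe, mem_center_iff]
    intro g
    apply e.injective
    rw [map_mul, map_mul, e.apply_symm_apply]
    exact mem_center_iff.1 hy (e g)

/-- **The reduction.** -/
theorem exists_hyp {G : Type u} [Group G] [Finite G] (hF : IsSimpleGroup ↥(generalizedFittingSubgroup G))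
    (hF' : ¬ IsMulCommutative ↥(generalizedFittingSubgroup G)) {L : Subgroup G} (hL : IsStandardSubgroup L)
    {τ : Ty} {n : ℕ} (hn : 1 ≤ n) (hIs : Is τ n (↥L ⧸ oddCore ↥L)) :
    ∃ (_ : (generalizedFittingSubgroup G).Normal) (t : G), t ∈ centralizer (L : Set G) ∧ orderOf t = 2 ∧
      L ≤ generalizedFittingSubgroup G ∧ centralizer (generalizedFittingSubgroup G : Set G) = ⊥ ∧
      Hyp τ n ↥(generalizedFittingSubgroup G) (MulAut.conjNormal t : MulAut ↥(generalizedFittingSubgroup G))
        (BB (generalizedFittingSubgroup G) L t) (↥L ⧸ oddCore ↥L) := by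
  have hFn : (generalizedFittingSubgroup G).Normal := Lib.GenFitting.genFitting_normal
  obtain ⟨hLX, hc, t, htL, hto⟩ := fstd hF hF' hL
  obtain ⟨h1, h2, h3⟩ := comp_fix hc hL hLX hto htL
  obtain ⟨hs, hna⟩ := hIs.simple hn
  have hz := oddCore_eq_center hL.1 hs hna
  have hodd : Odd (Nat.card (center ↥L)) := by
    rw [← hz]
    exact Nat.coprime_two_right.1 (Lib.Cores.pPrimeCore_coprime 2)
  let e := BBequiv hLX htL
  have hcard : Nat.card (center ↥(BB (generalizedFittingSubgroup G) L t)) = Nat.card (center ↥L) :=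
    Nat.card_congr (Subgroup.centerCongr e).toEquiv
  exact ⟨hFn, t, htL, hto, hLX, hc, hn, h1, h2, h3, by rw [hcard]; exact hodd, quo_iso e hz, hIs⟩

end Cfsg.Agent.H340.ExcStd
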