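import Cfsg.Agent.H340.ExcCls
import Cfsg.Agent.H340.ExcStd
import Cfsg.Agent.H287.FixInn
/-!
# Components of type `E₆, E₇, E₈, ²E₆, F₄` over fields of characteristic two: the list (helper340)
-/

set_option autoImplicit false

universe u v w

namespace Cfsg.Agent.H340.ExcTab

open Subgroup Cfsg Cfsg.Lie Cfsg.Agent.OrdDiv Cfsg.Agent.H902 Cfsg.Agent.H340.ExcId

variable {τ : Ty} {n : ℕ} {X : Type u} [Group X] {x : MulAut X} {A : Subgroup ↥(fixedSubgroup x)}
  {S : Type w} [Group S]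

theorem Hyp.orderOf_eq (h : Hyp τ n X x A S) : orderOf x = 2 :=
  orderOf_eq_prime (by rw [pow_two]; exact h.sq) h.ne

/-- `X` is not the Monster -/
theorem monster [Finite X] [IsSimpleGroup X] (h : Hyp τ n X x A S) (hX : Spor.IsoM X) : False := by
  obtain ⟨hn, hτ⟩ := spor_small h (Or.inr hX)
  obtain ⟨-, h1⟩ := Cfsg.Agent.H287.fix_m hX x h.orderOf_eq A h.comp
  have h2 := h.card.P_self
  rw [h1, hn] at h2
  have h3 : 2 ^ 41 ∣ Art.P 2 4154781481226426191177580544000000 :=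
    Nat.pow_dvd_pow 2 ((Nat.prime_two.pow_dvd_iff_le_factorization (by norm_num)).1 (by norm_num))
  rw [h2] at h3
  rcases hτ with rfl | rfl
  · exact absurd h3 (by decide)
  · exact absurd h3 (by decide)

/-- **The list.** -/
theorem main [Finite X] [IsSimpleGroup X] (hna : ¬ IsMulCommutative X) (hk : IsKnownSimple' X)
    (h : Hyp τ n X x A S) : Res τ n X ∨ (Spor.IsoB X ∧ n = 1 ∧ (τ = .TE6 ∨ τ = .F4)) := by
  rcases Cfsg.Agent.OddHalf.Known.classify hna hk with h1 | ⟨r, hr, hr2, h1⟩ | (h1 | h1) | h1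
  · exact (alt h h1).elim
  · exact (odd h hr hr2 h1).elim
  · rcases h1 with h2 | h2 | h2 | h2 | h2 | h2 | h2 | h2 | ⟨-, h2⟩ | ⟨-, h2⟩ | ⟨h2, -⟩
    · exact (cls hna h (Or.inl h2)).elim
    · exact (cls hna h (Or.inr (Or.inr (Or.inl h2)))).elim
    · exact (cls hna h (Or.inr (Or.inl h2))).elim
    · obtain ⟨F, _, _, _, m, -, hodd, -⟩ := h2
      exfalso
      obtain ⟨f, hf, hc⟩ := pow_of_card (F := F)
      rw [hc] at hodd
      exact (Nat.not_even_iff_odd.2 hodd) ((Nat.even_pow' (by omega)).2 even_two)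
    · exact (cls hna h (Or.inr (Or.inr (Or.inr (Or.inl h2))))).elim
    · exact (cls hna h (Or.inr (Or.inr (Or.inr (Or.inr h2))))).elim
    · exact Or.inl (exc hna h (Or.inl h2))
    · exact Or.inl (exc hna h (Or.inr (Or.inl h2)))
    · exact Or.inl (exc hna h (Or.inr (Or.inr (Or.inl h2))))
    · exact Or.inl (exc hna h (Or.inr (Or.inr (Or.inr h2))))
    · omega
  · exact (tits h h1).elim
  · rcases spor_red h h1 with h2 | h2
    · exact Or.inr ⟨h2, spor_small h (Or.inl h2)⟩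
    · exact (monster h h2).elim

end Cfsg.Agent.H340.ExcTab
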